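import Cfsg.Agent.Lib.Recognition.GLTwoThree.Extraspecial

/-!
# The two kinds of elementary abelian subgroups of order nine
-/

set_option autoImplicit false

namespace CfsgLib.Recognition.GLTwoThree

open Subgroup

variable {G : Type*} [Group G] [Finite G] (F : Frame G)

include F in
theorem Frame.central_mem_zpowers {g : G} (hg : g ∈ F.R) (hc : ∀ r ∈ F.R, Commute g r) :
    g ∈ zpowers F.x := by
  haveI : Fact (Nat.Prime 3) := ⟨Nat.prime_three⟩
  have hp : IsPGroup 3 F.R := IsPGroup.of_card (n := 3) (by rw [F.card_R]; norm_num)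
  set Z := center F.R
  have hxZ : (⟨F.x, F.x_mem⟩ : F.R) ∈ Z := mem_center_iff.mpr fun r =>
    Subtype.ext (((F.mem_R r).mp r.2).1)
  have hcard : Nat.card Z = 3 := by
    have hd : Nat.card Z ∣ 27 := F.card_R ▸ card_subgroup_dvd_card Z
    have h3 : 3 ∣ Nat.card Z := by
      have := orderOf_dvd_natCard (⟨_, hxZ⟩ : Z)
      rwa [Subgroup.orderOf_mk, Subgroup.orderOf_mk, F.x3] at this
    have hk : ∀ k ∈ Nat.divisors 27, 3 ∣ k → k = 3 ∨ k = 9 ∨ k = 27 := by decide +kernel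
    rcases hk _ (Nat.mem_divisors.mpr ⟨hd, by norm_num⟩) h3 with h | h | h
    · exact h
    all_goals
      exfalso
      refine F.not_comm fun a ha b hb => ?_
      haveI : IsCyclic (F.R ⧸ Z) := by
        have hmul := Z.card_eq_card_quotient_mul_card_subgroup
        rw [F.card_R, h] at hmul
        by_cases h1 : Nat.card (F.R ⧸ Z) = 1
        · haveI := (Nat.card_eq_one_iff_unique.mp h1).1
          exact isCyclic_of_subsingleton
        · exact isCyclic_of_prime_card (p := 3) (by omega)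
      exact congrArg Subtype.val (commutative_of_cyclic_center_quotient (QuotientGroup.mk' Z)
        (by rw [QuotientGroup.ker_mk']) (⟨a, ha⟩ : F.R) ⟨b, hb⟩)
  have hgZ : (⟨g, hg⟩ : F.R) ∈ Z := mem_center_iff.mpr fun r => Subtype.ext (hc r r.2).symm
  have htop : zpowers (⟨_, hxZ⟩ : Z) = ⊤ := eq_top_of_card_eq _ (by
    rw [Nat.card_zpowers, Subgroup.orderOf_mk, Subgroup.orderOf_mk, F.x3, hcard])
  obtain ⟨k, hk⟩ := (htop ▸ mem_top (⟨_, hgZ⟩ : Z) : (⟨_, hgZ⟩ : Z) ∈ zpowers (⟨_, hxZ⟩ : Z))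
  exact ⟨k, by simpa using congrArg (fun v : Z => ((v : F.R) : G)) hk⟩

include F in
theorem Frame.commutator_mem {g h : G} (hg : g ∈ F.R) (hh : h ∈ F.R) :
    g * h * g⁻¹ * h⁻¹ ∈ zpowers F.x := by
  haveI : Fact (Nat.Prime 3) := ⟨Nat.prime_three⟩
  let N : Subgroup F.R := (zpowers F.x).subgroupOf F.R
  haveI hN : N.Normal := ⟨fun r hr s => by
    simp only [N, mem_subgroupOf] at hr ⊢
    obtain ⟨k, hk⟩ := hr
    refine ⟨k, ?_⟩
    show F.x ^ k = (s : G) * r * (s : G)⁻¹
    rw [← hk, (Commute.zpow_right (show Commute (s : G) F.x from ((F.mem_R s).mp s.2).1) k).eq,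
      mul_inv_cancel_right]⟩
  have hcard : Nat.card (F.R ⧸ N) = 3 ^ 2 := by
    have := N.card_eq_card_quotient_mul_card_subgroup
    rw [F.card_R, Nat.card_congr (subgroupOfEquivOfLe (zpowers_le.mpr F.x_mem)).toEquiv,
      Nat.card_zpowers, F.x3] at this
    omega
  have hc := IsPGroup.commutative_of_card_eq_prime_sq hcard
  let g' : F.R := ⟨g, hg⟩
  let h' : F.R := ⟨h, hh⟩
  have : g' * h' * g'⁻¹ * h'⁻¹ ∈ N := by
    rw [← QuotientGroup.eq_one_iff]
    simp only [QuotientGroup.mk_mul, QuotientGroup.mk_inv]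
    rw [hc (g' : F.R ⧸ N) h']
    group
  exact this

include F in
theorem Frame.conj_eq {g h : G} (hg : g ∈ F.R) (hh : h ∈ F.R) :
    ∃ k : Fin 3, g * h * g⁻¹ = F.x ^ (k : ℕ) * h := by
  obtain ⟨k, hk⟩ := mem_powers_iff_mem_zpowers.mpr (F.commutator_mem hg hh)
  refine ⟨⟨k % 3, Nat.mod_lt _ (by norm_num)⟩, ?_⟩
  show g * h * g⁻¹ = F.x ^ (k % 3) * h
  rw [← pow_eq_pow_mod k F.toData.x_cube, show F.x ^ k = g * h * g⁻¹ * h⁻¹ from hk, inv_mul_cancel_right]

include F in
/-- Conjugation within `R` moves a non-central element over its whole coset. -/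
theorem Frame.coset_conj {h : G} (hh : h ∈ F.R) (hne : h ∉ zpowers F.x) (m : ℕ) :
    ∃ g ∈ F.R, g * h * g⁻¹ = F.x ^ m * h := by
  obtain ⟨g, hg, hgh⟩ : ∃ g ∈ F.R, ¬ Commute h g := by
    by_contra hc
    exact hne (F.central_mem_zpowers hh fun r hr => by
      by_contra h'; exact hc ⟨r, hr, h'⟩)
  obtain ⟨k, hk⟩ := F.conj_eq hg hh
  have hk0 : (k : ℕ) ≠ 0 := fun h0 => hgh (by
    rw [h0, pow_zero, one_mul] at hk
    exact (mul_inv_eq_iff_eq_mul.mp hk).symm)
  have hgx : Commute g F.x := ((F.mem_R g).mp hg).1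
  have hp : ∀ n : ℕ, g ^ n * h * (g ^ n)⁻¹ = F.x ^ (k * n : ℕ) * h := by
    intro n
    induction n with
    | zero => simp
    | succ n ih =>
      rw [pow_succ', show g * g ^ n * h * (g * g ^ n)⁻¹ = g * (g ^ n * h * (g ^ n)⁻¹) * g⁻¹ by group,
        ih, ← conj_mul, (Commute.pow_right hgx _).eq, mul_inv_cancel_right, hk, ← mul_assoc, ← pow_add]
      congr 2
  refine ⟨g ^ (k * m : ℕ), pow_mem hg _, ?_⟩
  rw [hp, pow_eq_pow_mod _ F.toData.x_cube, pow_eq_pow_mod m F.toData.x_cube]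
  congr 2
  have hk3 := k.2
  rw [← mul_assoc, Nat.mul_mod, Nat.mul_mod (k : ℕ)]
  rcases (show (k : ℕ) = 1 ∨ (k : ℕ) = 2 by omega) with h | h <;> rw [h] <;> norm_num

/-- An involution inverting `x` with a non-identity fixed element in the radical. -/
structure Axis (F : Frame G) where
  v : G
  a : G
  v2 : orderOf v = 2
  vx : v * F.x * v⁻¹ = F.x⁻¹
  tv : F.t * v = v * F.t
  va : Commute v a
  a_mem : a ∈ F.R
  a3 : a ^ 3 = 1
  a_ne : a ≠ 1

theorem exists_axis {v : G} (v2 : orderOf v = 2) (vx : v * F.x * v⁻¹ = F.x⁻¹)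
    (tv : F.t * v = v * F.t) : ∃ α : Axis F, α.v = v := by
  have hv : ∀ r ∈ F.R, v * r * v⁻¹ ∈ F.R := fun r hr => F.conj_mem (Or.inr vx) hr
  let f : F.R →* F.R :=
    MonoidHom.mk' (fun r => ⟨v * r * v⁻¹, hv r r.2⟩) fun r s => Subtype.ext (by simp)
  by_cases hfix : ∀ r : F.R, f r = r → r = 1
  · exfalso
    have hinvo : Function.Involutive f := fun r => Subtype.ext (by
      show v * (v * r * v⁻¹) * v⁻¹ = r
      calc v * (v * r * v⁻¹) * v⁻¹ = v ^ 2 * r * (v ^ 2)⁻¹ := by rw [sq]; group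
        _ = r := by rw [← v2, pow_orderOf_eq_one]; group)
    have hinv := MonoidHom.FixedPointFree.coe_eq_inv_of_involutive (φ := f)
      (fun r hr => hfix r hr) hinvo
    refine F.not_comm fun g hg h hh => ?_
    have h1 := f.map_mul ⟨g, hg⟩ ⟨h, hh⟩
    rw [congrFun hinv, congrFun hinv, congrFun hinv] at h1
    have h2 := congrArg Subtype.val h1
    simp only [coe_mul, coe_inv, mul_inv_rev] at h2
    have h3 := congrArg (·⁻¹) h2
    simp only [mul_inv_rev, inv_inv] at h3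
    exact h3
  · simp only [not_forall] at hfix
    obtain ⟨⟨a, ha⟩, hfa, hane⟩ := hfix
    have hva : Commute v a := mul_inv_eq_iff_eq_mul.mp (congrArg Subtype.val hfa)
    have ha3 : a ^ 3 = 1 := by
      have h27 : orderOf a ∣ 27 := orderOf_dvd_of_pow_eq_one ((F.mem_R a).mp ha).2
      obtain ⟨c, hc⟩ := isConj_iff.mp (F.conj_t v v2)
      have hm : c * a * c⁻¹ ∈ centralizer ({F.t} : Set G) := mem_centralizer_singleton_iff.mpr
        (by rw [← hc]; exact ((Commute.conj_iff c).mpr hva).symm.eq)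
      have h48 := orderOf_dvd_natCard (⟨_, hm⟩ : centralizer ({F.t} : Set G))
      rw [F.card_ct, Subgroup.orderOf_mk, show orderOf (c * a * c⁻¹) = orderOf a from
        (MulAut.conj c).orderOf_eq a] at h48
      exact orderOf_dvd_iff_pow_eq_one.mp ((Nat.dvd_gcd h27 h48).trans (by norm_num))
    exact ⟨⟨v, a, v2, vx, tv, hva, ha, ha3, fun h => hane (Subtype.ext h)⟩, rfl⟩

variable {F} (α : Axis F)
include α

theorem Axis.a_notMem : α.a ∉ zpowers F.x := by
  rintro ⟨k, hk⟩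
  have h1 : α.v * (F.x ^ k) * α.v⁻¹ = F.x ^ k := by
    rw [show F.x ^ k = α.a from hk, α.va.eq, mul_inv_cancel_right]
  rw [← conj_zpow, α.vx, inv_zpow] at h1
  have h2 : α.a ^ 2 = 1 := by
    rw [← show F.x ^ k = α.a from hk, sq]
    exact inv_eq_iff_mul_eq_one.mp h1
  refine α.a_ne ?_
  have h3 := α.a3
  rwa [pow_succ, h2, one_mul] at h3

theorem Axis.order_a : orderOf α.a = 3 :=
  haveI : Fact (Nat.Prime 3) := ⟨Nat.prime_three⟩
  orderOf_eq_prime α.a3 α.a_ne

theorem Axis.commute_xa : Commute F.x α.a := ((F.mem_R _).mp α.a_mem).1.symm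

/-- The subgroup generated by `x` and the fixed element. -/
def Axis.A : Subgroup G := pair α.commute_xa F.toData.x_cube α.a3

theorem Axis.A_le : α.A ≤ F.R := by
  rintro g ⟨i, j, rfl⟩
  exact mul_mem (pow_mem F.x_mem _) (pow_mem α.a_mem _)

theorem Axis.card_A : Nat.card α.A = 9 := card_pair F.toData.x_ne α.a_notMem

theorem Axis.x_mem_A : F.x ∈ α.A := left_mem_pair

theorem Axis.a_mem_A : α.a ∈ α.A := right_mem_pair

theorem Axis.a_conj : IsConj α.a F.x :=
  F.toData.conj_of_involution α.v2 α.order_a α.va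

theorem Axis.tat : F.t * α.a * F.t⁻¹ = α.a⁻¹ := by
  -- the fixed points of `v` in `R` form a group of order three
  set K := F.R ⊓ centralizer ({α.v} : Set G)
  have hK3 : Nat.card K ∣ 3 := by
    obtain ⟨c, hc⟩ := isConj_iff.mp (F.conj_t α.v α.v2)
    have h1 : Nat.card K ∣ 27 := F.card_R ▸ card_dvd_of_le inf_le_left
    have h2 : Nat.card K ∣ 48 := by
      rw [Nat.card_congr (equivMapOfInjective K (MulAut.conj c).toMonoidHom (MulAut.conj c).injective).toEquiv, ← F.card_ct]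
      refine card_dvd_of_le ?_
      rintro _ ⟨g, hg, rfl⟩
      refine mem_centralizer_singleton_iff.mpr ?_
      rw [← hc]
      exact ((Commute.conj_iff c).mpr (mem_centralizer_singleton_iff.mp hg.2)).eq
    exact (Nat.dvd_gcd h1 h2).trans (by norm_num)
  have haK : α.a ∈ K := ⟨α.a_mem, mem_centralizer_singleton_iff.mpr α.va.symm.eq⟩
  have hz : zpowers α.a = K := eq_of_le_of_card_ge (zpowers_le.mpr haK) (by
    rw [Nat.card_zpowers, α.order_a]; exact Nat.le_of_dvd (by norm_num) hK3)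
  have hm : F.t * α.a * F.t⁻¹ ∈ K := by
    refine ⟨F.conj_mem (Or.inl F.toData.txt) α.a_mem, mem_centralizer_singleton_iff.mpr ?_⟩
    have h := (Commute.conj_iff F.t).mpr α.va.symm
    rw [α.tv, mul_inv_cancel_right] at h
    exact h.eq
  rw [← hz] at hm
  obtain ⟨k, hk⟩ := mem_powers_iff_mem_zpowers.mpr hm
  simp only at hk
  rw [pow_eq_pow_mod k α.a3] at hk
  rcases (show k % 3 = 0 ∨ k % 3 = 1 ∨ k % 3 = 2 by omega) with h | h | h <;> rw [h] at hk
  · rw [pow_zero] at hk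
    exact absurd (conj_eq_one_iff.mp hk.symm) α.a_ne
  · rw [pow_one] at hk
    exact absurd (F.toData.mem_zpowers_of_commute α.a3 (mul_inv_eq_iff_eq_mul.mp hk.symm).symm
      α.commute_xa.symm) α.a_notMem
  · rw [← hk]
    exact (inv_eq_of_mul_eq_one_right (by rw [← pow_succ']; exact α.a3)).symm

theorem Axis.t_conj_mem {y : G} (hy : y ∈ α.A) : F.t * y * F.t⁻¹ ∈ α.A := by
  obtain ⟨i, j, rfl⟩ := hy
  rw [← conj_mul, ← conj_pow, ← conj_pow, F.toData.txt, α.tat]
  exact mul_mem (pow_mem α.x_mem_A _) (pow_mem (inv_mem α.a_mem_A) _)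

theorem Axis.R_conj_mem {g y : G} (hg : g ∈ F.R) (hy : y ∈ α.A) : g * y * g⁻¹ ∈ α.A := by
  obtain ⟨k, hk⟩ := F.conj_eq hg (α.A_le hy)
  rw [hk]
  exact mul_mem (pow_mem α.x_mem_A _) hy

theorem mem_normalizer_of_conj_mem {H : Type*} [Group H] [Finite H] {K : Subgroup H} {g : H}
    (h : ∀ y ∈ K, g * y * g⁻¹ ∈ K) : g ∈ normalizer (K : Set H) :=
  mem_normalizer_fintype h

theorem Axis.t_mem_normalizer : F.t ∈ normalizer (α.A : Set G) :=
  mem_normalizer_fintype fun _ hy => α.t_conj_mem hy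

theorem Axis.R_le_normalizer : F.R ≤ normalizer (α.A : Set G) :=
  fun _ hg => mem_normalizer_fintype fun _ hy => α.R_conj_mem hg hy

theorem Axis.v_mem_normalizer : α.v ∈ normalizer (α.A : Set G) := by
  refine mem_normalizer_fintype ?_
  rintro y ⟨i, j, rfl⟩
  rw [← conj_mul, ← conj_pow, ← conj_pow, α.vx, α.va.eq, mul_inv_cancel_right]
  exact mul_mem (pow_mem (inv_mem α.x_mem_A) _) (pow_mem α.a_mem_A _)

theorem Axis.centralizer_le_normalizer :
    centralizer ({F.x} : Set G) ≤ normalizer (α.A : Set G) := by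
  intro g hg
  rcases F.cover g (mem_centralizer_singleton_iff.mp hg) with h | h
  · exact α.R_le_normalizer h
  · have := mul_mem (α.R_le_normalizer h) (inv_mem α.t_mem_normalizer)
    rwa [mul_inv_cancel_right] at this

/-- The normaliser of `A` is transitive on its non-identity elements. -/
theorem Axis.exists_conj {y : G} (hy : y ∈ α.A) (hy1 : y ≠ 1) :
    ∃ n ∈ normalizer (α.A : Set G), n * F.x * n⁻¹ = y := by
  have hcomp : ∀ {p q r : G}, (∃ n ∈ normalizer (α.A : Set G), n * p * n⁻¹ = q) →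
      (∃ n ∈ normalizer (α.A : Set G), n * q * n⁻¹ = r) →
      ∃ n ∈ normalizer (α.A : Set G), n * p * n⁻¹ = r := by
    rintro p q r ⟨n, hn, rfl⟩ ⟨m, hm, rfl⟩
    exact ⟨m * n, mul_mem hm hn, by group⟩
  have hxinv : F.x⁻¹ = F.x ^ 2 :=
    inv_eq_of_mul_eq_one_right (by rw [← pow_succ']; exact F.toData.x_cube)
  have hainv : α.a⁻¹ = α.a ^ 2 := inv_eq_of_mul_eq_one_right (by rw [← pow_succ']; exact α.a3)
  -- an element leaving `⟨x⟩`
  obtain ⟨k, m, hm, hfirst⟩ : ∃ k m : Fin 3, m ≠ 0 ∧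
      ∃ n ∈ normalizer (α.A : Set G), n * F.x * n⁻¹ = F.x ^ (k : ℕ) * α.a ^ (m : ℕ) := by
    obtain ⟨c, hc⟩ := isConj_iff.mp α.a_conj
    -- `c⁻¹ R c` centralises `a`
    have hxR : c * F.x * c⁻¹ ∈ F.R := by
      refine (F.mem_R _).mpr ⟨?_, by
        rw [conj_pow, show (27 : ℕ) = 3 * 9 from rfl, pow_mul, F.toData.x_cube, one_pow]; group⟩
      nth_rewrite 2 [← hc]; nth_rewrite 2 [← hc]
      exact ((Commute.conj_iff c).mpr α.commute_xa).eq
    have hnz : c * F.x * c⁻¹ ∉ zpowers F.x := by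
      rintro ⟨j, hj⟩
      have h1 : F.x = α.a ^ j := by
        have : c * F.x * c⁻¹ = c * α.a ^ j * c⁻¹ := by
          rw [← conj_zpow, hc]; exact hj.symm
        exact mul_left_cancel (mul_right_cancel this)
      have h2 : F.x ∈ zpowers α.a := ⟨j, h1.symm⟩
      have h3 : zpowers F.x = zpowers α.a := eq_of_le_of_card_ge (zpowers_le.mpr h2) (by
        rw [Nat.card_zpowers, Nat.card_zpowers, α.order_a, F.x3])
      exact α.a_notMem (h3 ▸ mem_zpowers _)
    obtain ⟨g, hg, hgc⟩ := F.coset_conj hxR hnz 1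
    refine ⟨1, 1, by decide, c⁻¹ * g * c, ?_, ?_⟩
    · refine mem_normalizer_fintype fun y hy => ?_
      have hyR : c * y * c⁻¹ ∈ F.R := by
        refine (F.mem_R _).mpr ⟨?_, by
          rw [conj_pow, show (27 : ℕ) = 3 * 9 from rfl, pow_mul, pow_three_of_mem_pair hy, one_pow]; group⟩
        rw [← hc]
        exact ((Commute.conj_iff c).mpr (commute_of_mem_pair hy α.a_mem_A)).eq
      obtain ⟨k, hk⟩ := F.conj_eq hg hyR
      have : (c⁻¹ * g * c) * y * (c⁻¹ * g * c)⁻¹ = α.a ^ (k : ℕ) * y := by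
        rw [show (c⁻¹ * g * c) * y * (c⁻¹ * g * c)⁻¹ = c⁻¹ * (g * (c * y * c⁻¹) * g⁻¹) * c by group, hk]
        nth_rewrite 1 [← hc]
        rw [conj_pow]; group
      rw [this]
      exact mul_mem (pow_mem α.a_mem_A _) hy
    · rw [show (c⁻¹ * g * c) * F.x * (c⁻¹ * g * c)⁻¹ = c⁻¹ * (g * (c * F.x * c⁻¹) * g⁻¹) * c by group,
        hgc, pow_one]
      nth_rewrite 1 [← hc]
      show _ = F.x ^ 1 * α.a ^ 1
      rw [pow_one, pow_one, α.commute_xa.eq]
      group
  -- all of `A` outside `⟨x⟩` is one orbit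
  have hcoset : ∀ i i' : ℕ, ∀ j : ℕ, j % 3 ≠ 0 → ∃ n ∈ normalizer (α.A : Set G),
      n * (F.x ^ i * α.a ^ j) * n⁻¹ = F.x ^ i' * α.a ^ j := by
    intro i i' j hj
    have hne : F.x ^ i * α.a ^ j ∉ zpowers F.x := by
      intro h
      have h2 : α.a ^ j ∈ zpowers F.x := by
        have := mul_mem (inv_mem (npow_mem_zpowers F.x i)) h
        rwa [inv_mul_cancel_left] at this
      rw [pow_eq_pow_mod j α.a3] at h2
      rcases (show j % 3 = 1 ∨ j % 3 = 2 by omega) with hj' | hj' <;> rw [hj'] at h2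
      · exact α.a_notMem (by simpa using h2)
      · rw [← hainv, inv_mem_iff] at h2; exact α.a_notMem h2
    obtain ⟨g, hg, hgk⟩ := F.coset_conj (α.A_le ⟨i, j, rfl⟩) hne (i' + 2 * i)
    refine ⟨g, α.R_le_normalizer hg, hgk.trans ?_⟩
    rw [← mul_assoc, ← pow_add, pow_eq_pow_mod _ F.toData.x_cube, pow_eq_pow_mod i' F.toData.x_cube]
    congr 2; omega
  have hsign : ∀ i j : ℕ, ∃ n ∈ normalizer (α.A : Set G),
      n * (F.x ^ i * α.a ^ j) * n⁻¹ = F.x ^ i * α.a ^ (2 * j) := fun i j =>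
    ⟨F.t, α.t_mem_normalizer, by
      rw [← conj_mul, ← conj_pow, ← conj_pow, F.toData.txt, α.tat, hainv, pow_mul]⟩
  obtain ⟨i, j, rfl⟩ := exists_fin_of_mem_pair hy
  by_cases hj : j = 0
  · subst hj
    fin_cases i
    · simp at hy1
    · exact ⟨1, one_mem _, by simp⟩
    · exact ⟨α.v, α.v_mem_normalizer, by simp [α.vx, hxinv]⟩
  · refine hcomp hfirst (hcomp (hcoset k i m (by omega)) ?_)
    by_cases hjm : j = m
    · subst hjm
      exact ⟨1, one_mem _, by simp⟩
    · obtain ⟨n, hn, hnn⟩ := hsign i m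
      refine ⟨n, hn, hnn.trans ?_⟩
      rw [pow_eq_pow_mod (2 * (m : ℕ)) α.a3]
      have h1 := Fin.val_ne_zero_iff.mpr hj
      have h2 := Fin.val_ne_zero_iff.mpr hm
      have h3 : (j : ℕ) ≠ m := fun h => hjm (Fin.ext h)
      have := j.2
      have := m.2
      congr 2
      interval_cases (j : ℕ) <;> interval_cases (m : ℕ) <;> simp_all

theorem Axis.isConj_of_mem {y : G} (hy : y ∈ α.A) (hy1 : y ≠ 1) : IsConj y F.x := by
  obtain ⟨n, -, hn⟩ := α.exists_conj hy hy1
  exact (isConj_iff.mpr ⟨n, hn⟩ : IsConj F.x y).symm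

theorem Axis.card_normalizer : Nat.card (normalizer (α.A : Set G)) = 432 := by
  let K := (centralizer ({F.x} : Set G)).subgroupOf (normalizer (α.A : Set G))
  have h := card_fibre (G := ↥(normalizer (α.A : Set G))) (fun n => (n : G) * F.x * (n : G)⁻¹) K
    (fun g g' => by
      rw [mem_subgroupOf, mem_centralizer_singleton_iff]
      push_cast
      constructor
      · intro h
        calc (g : G)⁻¹ * g' * F.x = (g : G)⁻¹ * ((g' : G) * F.x * (g' : G)⁻¹) * g' := by group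
          _ = _ := by rw [← h]; group
      · intro h
        calc (g : G) * F.x * (g : G)⁻¹ = (g : G) * (F.x * ((g : G)⁻¹ * g')) * (g' : G)⁻¹ := by group
          _ = _ := by rw [← h]; group)
    ((α.A : Set G) \ {1}) (fun y => by
      constructor
      · rintro ⟨hy, hy1⟩
        obtain ⟨n, hn, hnx⟩ := α.exists_conj hy hy1
        exact ⟨⟨n, hn⟩, hnx⟩
      · rintro ⟨⟨n, hn⟩, rfl⟩
        exact ⟨(mem_normalizer_iff.mp hn _).mp α.x_mem_A,
          fun h => F.toData.x_ne (conj_eq_one_iff.mp h)⟩)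
  rw [h, Nat.card_congr (subgroupOfEquivOfLe α.centralizer_le_normalizer).toEquiv, F.card_cx,
    Nat.card_coe_set_eq, Set.ncard_diff_singleton_of_mem (one_mem α.A), ← Nat.card_coe_set_eq]
  rw [show Nat.card ↥(α.A : Set G) = 9 from α.card_A]

/-- Only one conjugate of `A` contains `x`. -/
theorem Axis.conj_eq_self {g : G} (h : g⁻¹ * F.x * g ∈ α.A) : g ∈ normalizer (α.A : Set G) := by
  obtain ⟨n, hn, hnx⟩ := α.exists_conj h (fun h1 => F.toData.x_ne (by
    calc F.x = g * (g⁻¹ * F.x * g) * g⁻¹ := by group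
      _ = 1 := by rw [h1]; group))
  have hc : g * n ∈ centralizer ({F.x} : Set G) := by
    rw [mem_centralizer_singleton_iff]
    calc g * n * F.x = g * (n * F.x * n⁻¹) * n := by group
      _ = F.x * (g * n) := by rw [hnx]; group
  have := mul_mem (α.centralizer_le_normalizer hc) (inv_mem hn)
  rwa [mul_inv_cancel_right] at this

end CfsgLib.Recognition.GLTwoThree
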