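import Mathlib

/-!
# Small tools: orbit counting, pairs of commuting elements of order three
-/

set_option autoImplicit false

namespace CfsgLib.Recognition.GLTwoThree

variable {G : Type*} [Group G]

/-- Orbit counting for a function with coset fibres. -/
theorem card_fibre {α : Type*} (f : G → α) (K : Subgroup G)
    (h : ∀ g g', f g = f g' ↔ g⁻¹ * g' ∈ K) (S : Set α) (hS : ∀ y, y ∈ S ↔ ∃ g, f g = y) :
    Nat.card G = Nat.card S * Nat.card K := by
  let q : G ⧸ K → S := Quotient.lift (fun g => (⟨f g, (hS _).mpr ⟨g, rfl⟩⟩ : S))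
    (fun a b hab => Subtype.ext ((h a b).mpr (QuotientGroup.leftRel_apply.mp hab)))
  have hq : Function.Bijective q := by
    constructor
    · intro a b
      induction a using QuotientGroup.induction_on with
      | H a =>
        induction b using QuotientGroup.induction_on with
        | H b =>
          intro hab
          exact QuotientGroup.eq.mpr ((h a b).mp (congrArg Subtype.val hab))
    · rintro ⟨y, hy⟩
      obtain ⟨g, rfl⟩ := (hS y).mp hy
      exact ⟨(g : G ⧸ K), rfl⟩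
  rw [K.card_eq_card_quotient_mul_card_subgroup, Nat.card_eq_of_bijective q hq]

/-- An element of odd order lies in each subgroup of index two. -/
theorem mem_of_index_two {K : Subgroup G} (hK : K.index = 2) {g : G} {n : ℕ} (hn : Odd n)
    (hg : g ^ n = 1) : g ∈ K := by
  obtain ⟨m, hm⟩ := hn
  have h2 : g ^ (2 * (m + 1)) ∈ K := by
    rw [pow_mul]
    exact pow_mem (Subgroup.sq_mem_of_index_two hK g) _
  rwa [show 2 * (m + 1) = n + 1 by omega, pow_succ, hg, one_mul] at h2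

/-- The subgroup of two commuting elements of order three. -/
def pair {x a : G} (hxa : Commute x a) (hx : x ^ 3 = 1) (ha : a ^ 3 = 1) : Subgroup G where
  carrier := {g | ∃ i j : ℕ, g = x ^ i * a ^ j}
  one_mem' := ⟨0, 0, by simp⟩
  mul_mem' := by
    rintro _ _ ⟨i, j, rfl⟩ ⟨k, l, rfl⟩
    refine ⟨i + k, j + l, ?_⟩
    rw [pow_add, pow_add, mul_assoc, mul_assoc, ← mul_assoc (a ^ j), ((hxa.pow_pow k j).symm).eq,
      mul_assoc]
  inv_mem' := by
    rintro _ ⟨i, j, rfl⟩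
    refine ⟨2 * i, 2 * j, (eq_inv_of_mul_eq_one_left ?_).symm⟩
    rw [mul_assoc, ← mul_assoc (a ^ (2 * j)), ((hxa.pow_pow i (2 * j)).symm).eq, mul_assoc,
      ← pow_add, ← mul_assoc, ← pow_add, show 2 * i + i = 3 * i by omega,
      show 2 * j + j = 3 * j by omega, pow_mul, pow_mul, hx, ha, one_pow, one_pow, one_mul]

variable {x a : G} {hxa : Commute x a} {hx : x ^ 3 = 1} {ha : a ^ 3 = 1}

theorem mem_pair {g : G} : g ∈ pair hxa hx ha ↔ ∃ i j : ℕ, g = x ^ i * a ^ j := Iff.rfl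

theorem left_mem_pair : x ∈ pair hxa hx ha := ⟨1, 0, by simp⟩

theorem right_mem_pair : a ∈ pair hxa hx ha := ⟨0, 1, by simp⟩

theorem pow_three_of_mem_pair {g : G} (hg : g ∈ pair hxa hx ha) : g ^ 3 = 1 := by
  obtain ⟨i, j, rfl⟩ := hg
  rw [(hxa.pow_pow i j).mul_pow, ← pow_mul, ← pow_mul, mul_comm i, mul_comm j, pow_mul, pow_mul,
    hx, ha, one_pow, one_pow, one_mul]

theorem commute_of_mem_pair {g h : G} (hg : g ∈ pair hxa hx ha) (hh : h ∈ pair hxa hx ha) :
    Commute g h := by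
  obtain ⟨i, j, rfl⟩ := hg
  obtain ⟨k, l, rfl⟩ := hh
  exact ((((Commute.refl x).pow_pow i k).mul_right (hxa.pow_pow i l))).mul_left
    (((hxa.symm).pow_pow j k).mul_right ((Commute.refl a).pow_pow j l))

theorem exists_fin_of_mem_pair {g : G} (hg : g ∈ pair hxa hx ha) :
    ∃ i j : Fin 3, g = x ^ (i : ℕ) * a ^ (j : ℕ) := by
  obtain ⟨i, j, rfl⟩ := hg
  refine ⟨⟨i % 3, Nat.mod_lt _ (by norm_num)⟩, ⟨j % 3, Nat.mod_lt _ (by norm_num)⟩, ?_⟩
  show x ^ i * a ^ j = x ^ (i % 3) * a ^ (j % 3)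
  rw [pow_eq_pow_mod i hx, pow_eq_pow_mod j ha]

theorem pair_coord (hx1 : x ≠ 1) (hax : a ∉ Subgroup.zpowers x) (hx' : x ^ 3 = 1) (ha' : a ^ 3 = 1)
    (i j k l : Fin 3) (h : x ^ (i : ℕ) * a ^ (j : ℕ) = x ^ (k : ℕ) * a ^ (l : ℕ)) : i = k ∧ j = l := by
  haveI : Fact (Nat.Prime 3) := ⟨Nat.prime_three⟩
  have hox : orderOf x = 3 := orderOf_eq_prime hx' hx1
  have hjl : j = l := by
    by_contra hne
    refine hax ?_
    have hmem : a ^ ((j : ℕ) + 3 - (l : ℕ)) ∈ Subgroup.zpowers x := by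
      have e : a ^ ((j : ℕ) + 3 - (l : ℕ)) = a ^ (j : ℕ) * (a ^ (l : ℕ))⁻¹ := by
        rw [eq_mul_inv_iff_mul_eq, ← pow_add, show (j : ℕ) + 3 - l + l = j + 3 by omega, pow_add, ha',
          mul_one]
      rw [e, show a ^ (j : ℕ) * (a ^ (l : ℕ))⁻¹ = (x ^ (i : ℕ))⁻¹ * x ^ (k : ℕ) by
        rw [eq_inv_mul_iff_mul_eq, ← mul_assoc, h, mul_inv_cancel_right]]
      exact mul_mem (inv_mem (Subgroup.npow_mem_zpowers x _)) (Subgroup.npow_mem_zpowers x _)
    have hcases : ((j : ℕ) + 3 - (l : ℕ)) % 3 = 1 ∨ ((j : ℕ) + 3 - (l : ℕ)) % 3 = 2 := by omega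
    rw [pow_eq_pow_mod _ ha'] at hmem
    rcases hcases with h' | h' <;> rw [h'] at hmem
    · simpa using hmem
    · have h4 : a = (a ^ 2) ^ 2 := by
        rw [← pow_mul, show 2 * 2 = 3 + 1 from rfl, pow_succ, ha', one_mul]
      rw [h4]
      exact pow_mem hmem 2
  subst hjl
  refine ⟨Fin.ext ?_, rfl⟩
  exact pow_injOn_Iio_orderOf (show (i : ℕ) ∈ Set.Iio (orderOf x) by rw [hox]; exact i.2)
    (show (k : ℕ) ∈ Set.Iio (orderOf x) by rw [hox]; exact k.2) (mul_right_cancel h)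

theorem card_pair (hx1 : x ≠ 1) (hax : a ∉ Subgroup.zpowers x) :
    Nat.card (pair hxa hx ha) = 9 := by
  have : Function.Bijective (fun p : Fin 3 × Fin 3 =>
      (⟨x ^ (p.1 : ℕ) * a ^ (p.2 : ℕ), p.1.1, p.2.1, rfl⟩ : pair hxa hx ha)) := by
    constructor
    · rintro ⟨i, j⟩ ⟨k, l⟩ h
      obtain ⟨rfl, rfl⟩ := pair_coord hx1 hax hx ha i j k l (congrArg Subtype.val h)
      rfl
    · rintro ⟨g, hg⟩
      obtain ⟨i, j, rfl⟩ := exists_fin_of_mem_pair hg
      exact ⟨(i, j), rfl⟩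
  rw [← Nat.card_eq_of_bijective _ this]
  simp

end CfsgLib.Recognition.GLTwoThree
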