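import Cfsg.Agent.Lib.Recognition.GLTwoThree.Local
import Cfsg.Agent.Lib.Recognition.GLTwoThree.Tools

/-!
# The centraliser of an element of order three, for groups of order 5616
-/

set_option autoImplicit false

namespace CfsgLib.Recognition.GLTwoThree

open Subgroup

variable {G : Type*} [Group G] [Finite G] (D : Data G)

theorem Data.t_ne : D.t ≠ 1 := fun h => by
  have := D.t2; rw [h, orderOf_one] at this; omega

theorem Data.x_ne : D.x ≠ 1 := fun h => by
  have := D.x3; rw [h, orderOf_one] at this; omega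

theorem Data.x_cube : D.x ^ 3 = 1 := by rw [← D.x3]; exact pow_orderOf_eq_one _

theorem Data.t_sq : D.t * D.t = 1 := by rw [← sq, ← D.t2]; exact pow_orderOf_eq_one _

theorem Data.s_sq : D.s * D.s = 1 := by rw [← sq, ← D.s2]; exact pow_orderOf_eq_one _

theorem Data.t_inv : D.t⁻¹ = D.t := inv_eq_of_mul_eq_one_right D.t_sq

theorem Data.s_inv : D.s⁻¹ = D.s := inv_eq_of_mul_eq_one_right D.s_sq

theorem Data.st_sq : (D.s * D.t) * (D.s * D.t) = 1 := by
  rw [mul_assoc, ← mul_assoc D.t, D.ts, mul_assoc D.s, D.t_sq, mul_one, D.s_sq]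

theorem Data.st_order : orderOf (D.s * D.t) = 2 := by
  haveI : Fact (Nat.Prime 2) := ⟨Nat.prime_two⟩
  refine orderOf_eq_prime (by rw [sq, D.st_sq]) fun h => D.s_ne ?_
  rw [eq_inv_of_mul_eq_one_left h, D.t_inv]

theorem Data.txt : D.t * D.x * D.t⁻¹ = D.x := by rw [D.tx, mul_inv_cancel_right]

theorem Data.stxst : (D.s * D.t) * D.x * (D.s * D.t)⁻¹ = D.x⁻¹ := by
  rw [show (D.s * D.t) * D.x * (D.s * D.t)⁻¹ = D.s * (D.t * D.x * D.t⁻¹) * D.s⁻¹ by group,
    D.txt, D.sx]

theorem Data.x_conj_inv : IsConj D.x⁻¹ D.x := (isConj_iff.mpr ⟨D.s, D.sx⟩ : IsConj D.x D.x⁻¹).symm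

theorem card_centralizer_of_isConj {y z : G} (h : IsConj y z) :
    Nat.card (centralizer ({y} : Set G)) = Nat.card (centralizer ({z} : Set G)) := by
  obtain ⟨c, rfl⟩ := isConj_iff.mp h
  refine Nat.card_congr ((MulAut.conj c).toEquiv.subtypeEquiv fun g => ?_)
  simp only [mem_centralizer_singleton_iff, MulEquiv.toEquiv_eq_coe, EquivLike.coe_coe,
    MulAut.conj_apply]
  exact (Commute.conj_iff c).symm

include D

/-- An element of order three centralised by an involution is conjugate to `x`. -/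
theorem Data.conj_of_involution {i y : G} (hi : orderOf i = 2) (hy : orderOf y = 3)
    (hiy : Commute i y) : IsConj y D.x := by
  obtain ⟨c, hc⟩ := isConj_iff.mp (D.conj_t i hi)
  refine (isConj_iff.mpr ⟨c, rfl⟩ : IsConj y (c * y * c⁻¹)).trans (D.conj_x _ ?_ ?_)
  · rw [← hy]; exact (MulAut.conj c).orderOf_eq y
  · rw [← hc]; exact ((Commute.conj_iff c).mpr hiy).symm.eq

theorem Data.not_involution_thirteen {i y : G} (hi : orderOf i = 2) (hy : orderOf y = 13)
    (hiy : Commute i y) : False := by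
  obtain ⟨c, hc⟩ := isConj_iff.mp (D.conj_t i hi)
  have hm : c * y * c⁻¹ ∈ centralizer ({D.t} : Set G) := mem_centralizer_singleton_iff.mpr
    (by rw [← hc]; exact ((Commute.conj_iff c).mpr hiy).symm.eq)
  have h : orderOf (c * y * c⁻¹) ∣ Nat.card (centralizer ({D.t} : Set G)) :=
    Subgroup.orderOf_mk (c * y * c⁻¹) hm ▸ orderOf_dvd_natCard (⟨_, hm⟩ : centralizer ({D.t} : Set G))
  rw [D.card_ct, show orderOf (c * y * c⁻¹) = 13 from hy ▸ (MulAut.conj c).orderOf_eq y] at h
  norm_num at h

theorem Data.centralizer_thirteen [IsSimpleGroup G] (hcard : Nat.card G = 5616) {y : G}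
    (hy : orderOf y = 13) : Nat.card (centralizer ({y} : Set G)) = 13 := by
  classical
  haveI hp : Fact (Nat.Prime 13) := ⟨by norm_num⟩
  haveI : Fact (Nat.Prime 2) := ⟨Nat.prime_two⟩
  have hY : Nat.card (zpowers y) = 13 := by rw [Nat.card_zpowers, hy]
  let S : Sylow 13 G := Sylow.ofCard (zpowers y) (by
    rw [hY, hcard, show 5616 = 13 ^ 1 * 432 by norm_num,
      Nat.factorization_mul (by norm_num) (by norm_num), Finsupp.add_apply,
      Nat.Prime.factorization_pow (by norm_num), Finsupp.single_eq_same,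
      Nat.factorization_eq_zero_of_not_dvd (by norm_num), pow_one])
  have hS : (S : Subgroup G) = zpowers y := Sylow.coe_ofCard ..
  have hn : Nat.card (Sylow 13 G) ∣ 432 := by
    have h := S.card_dvd_index
    have h2 := (zpowers y).card_mul_index
    rw [hY, hcard] at h2
    rw [hS, show (zpowers y).index = 432 by omega] at h
    exact h
  have hmod : Nat.card (Sylow 13 G) % 13 = 1 := card_sylow_modEq_one 13 G
  have hN : Nat.card (Sylow 13 G) = (normalizer ((S : Subgroup G) : Set G)).index :=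
    S.card_eq_index_normalizer
  have hN2 := (normalizer ((S : Subgroup G) : Set G)).card_mul_index
  rw [← hN, hcard] at hN2
  have hcases : Nat.card (Sylow 13 G) = 1 ∨ Nat.card (Sylow 13 G) = 27 ∨
      Nat.card (Sylow 13 G) = 144 := by
    have hk : ∀ k ∈ Nat.divisors 432, k % 13 = 1 → k = 1 ∨ k = 27 ∨ k = 144 := by decide +kernel
    exact hk _ (Nat.mem_divisors.mpr ⟨hn, by norm_num⟩) hmod
  have hCN : centralizer ({y} : Set G) ≤ normalizer ((S : Subgroup G) : Set G) := by
    intro g hg
    rw [hS, mem_normalizer_iff]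
    intro v
    have hgy : Commute g y := mem_centralizer_singleton_iff.mp hg
    constructor
    · rintro ⟨k, rfl⟩
      exact ⟨k, show y ^ k = g * y ^ k * g⁻¹ by rw [(hgy.zpow_right k).eq, mul_inv_cancel_right]⟩
    · rintro ⟨k, hk⟩
      refine ⟨k, ?_⟩
      simp only at hk ⊢
      have h : g * v * g⁻¹ = g * y ^ k * g⁻¹ := by
        rw [← hk, (hgy.zpow_right k).eq, mul_inv_cancel_right]
      exact (mul_left_cancel (mul_right_cancel h)).symm
  have h13 : 13 ∣ Nat.card (centralizer ({y} : Set G)) := hY ▸ card_dvd_of_le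
    (zpowers_le.mpr (mem_centralizer_singleton_iff.mpr rfl))
  have hdvd := card_dvd_of_le hCN
  rcases hcases with h | h | h
  · exfalso
    rw [h] at hN
    rw [eq_comm, Subgroup.index_eq_one] at hN
    have := Subgroup.normalizer_eq_top_iff.mp hN
    rcases this.eq_bot_or_eq_top with hb | hb
    · rw [hS] at hb; rw [hb] at hY; simp at hY
    · rw [hS] at hb; rw [hb, card_top, hcard] at hY; norm_num at hY
  · exfalso
    rw [h] at hN2
    obtain ⟨⟨g, hgN⟩, hg⟩ : ∃ g : normalizer ((S : Subgroup G) : Set G), orderOf g = 2 :=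
      exists_prime_orderOf_dvd_card' 2 (by
        rw [show Nat.card (normalizer ((S : Subgroup G) : Set G)) = 208 by omega]; norm_num)
    obtain ⟨P2, hP2⟩ := Sylow.exists_subgroup_card_pow_prime (G := normalizer ((S : Subgroup G) : Set G))
      2 (n := 4) (by
        rw [show Nat.card (normalizer ((S : Subgroup G) : Set G)) = 208 by omega]; norm_num)
    clear hg hgN g
    -- a group of order sixteen acting on a group of order thirteen
    let Y := normalizer ((S : Subgroup G) : Set G)
    let T : Subgroup G := P2.map Y.subtype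
    have hT : Nat.card T = 16 := by
      rw [← Nat.card_congr (equivMapOfInjective P2 _ Y.subtype_injective).toEquiv]
      simpa using hP2
    have hTY : ∀ g ∈ T, g * y * g⁻¹ ∈ zpowers y := by
      rintro _ ⟨g, -, rfl⟩
      have := (mem_normalizer_iff.mp g.2 y).mp (hS ▸ mem_zpowers y)
      rwa [hS] at this
    choose k hk using fun g (hg : g ∈ T) => mem_powers_iff_mem_zpowers.mpr (hTY g hg)
    have hkinj : ∀ g (hg : g ∈ T) g' (hg' : g' ∈ T),
        k g hg % 13 = k g' hg' % 13 → g⁻¹ * g' = 1 := by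
      intro g hg g' hg' he
      have e : g * y * g⁻¹ = g' * y * g'⁻¹ := by
        rw [← hk g hg, ← hk g' hg']
        show y ^ k g hg = y ^ k g' hg'
        rw [← pow_mod_orderOf, ← pow_mod_orderOf y (k g' hg'), hy, he]
      by_contra hne
      have hc : Commute (g⁻¹ * g') y := by
        show g⁻¹ * g' * y = y * (g⁻¹ * g')
        calc g⁻¹ * g' * y = g⁻¹ * (g' * y * g'⁻¹) * g' := by group
          _ = g⁻¹ * (g * y * g⁻¹) * g' := by rw [e]
          _ = y * (g⁻¹ * g') := by group
      have hT' : g⁻¹ * g' ∈ T := mul_mem (inv_mem hg) hg'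
      have hd : orderOf (⟨g⁻¹ * g', hT'⟩ : T) ∣ 2 ^ 4 := by
        rw [show (2 : ℕ) ^ 4 = Nat.card T by rw [hT]; norm_num]
        exact orderOf_dvd_natCard _
      rw [Subgroup.orderOf_mk] at hd
      obtain ⟨j, hj, hj'⟩ := (Nat.dvd_prime_pow Nat.prime_two).mp hd
      have hj0 : j ≠ 0 := fun h0 => hne (orderOf_eq_one_iff.mp (by rw [hj', h0, pow_zero]))
      refine D.not_involution_thirteen ?_ hy (hc.pow_left (2 ^ (j - 1)))
      rw [orderOf_pow' _ (by positivity), hj', Nat.gcd_eq_right (pow_dvd_pow 2 (by omega)),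
        Nat.pow_div (by omega) (by norm_num), show j - (j - 1) = 1 by omega, pow_one]
    let f : T → Fin 13 := fun g => ⟨k g.1 g.2 % 13, Nat.mod_lt _ (by norm_num)⟩
    have hf : Function.Injective f := fun g g' e =>
      Subtype.ext (inv_mul_eq_one.mp (hkinj _ g.2 _ g'.2 (congrArg Fin.val e)))
    have := Nat.card_le_card_of_injective f hf
    rw [hT, Nat.card_fin] at this
    omega
  · have hN39 : Nat.card (normalizer ((S : Subgroup G) : Set G)) = 39 := by rw [h] at hN2; omega
    rw [hN39] at hdvd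
    have hk : ∀ k ∈ Nat.divisors 39, 13 ∣ k → k = 13 ∨ k = 39 := by decide +kernel
    refine (hk _ (Nat.mem_divisors.mpr ⟨hdvd, by norm_num⟩) h13).resolve_right fun h39 => ?_
    have heq : centralizer ({y} : Set G) = normalizer ((S : Subgroup G) : Set G) :=
      eq_of_le_of_card_ge hCN (by rw [h39, hN39])
    have hle : normalizer ((S : Subgroup G) : Set G) ≤ centralizer ((S : Subgroup G) : Set G) := by
      intro g hg v hv
      rw [← heq] at hg
      rw [SetLike.mem_coe, hS] at hv
      obtain ⟨j, rfl⟩ := hv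
      exact ((show Commute g y from mem_centralizer_singleton_iff.mp hg).zpow_right j).symm.eq
    have hc := (MonoidHom.ker_transferSylow_isComplement' S hle).card_mul
    rcases (MonoidHom.transferSylow S hle).normal_ker.eq_bot_or_eq_top with hb | hb
    · rw [hb, card_bot, hS, hY, hcard] at hc; norm_num at hc
    · rw [hb, card_top, hS, hY, hcard] at hc; norm_num at hc

theorem Data.card_two_part {H : Subgroup G} (hH : ∀ g ∈ H, Commute g D.x) (htH : D.t ∈ H)
    (h2 : IsPGroup 2 H) : Nat.card H ≤ 2 := by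
  haveI : Fact (Nat.Prime 2) := ⟨Nat.prime_two⟩
  have key : ∀ K : Subgroup G, IsPGroup 2 K → (∀ g ∈ K, Commute g D.t ∧ Commute g D.x) →
      Nat.card K ≤ 2 := by
    intro K hK hKc
    obtain ⟨n, hn⟩ := hK.exists_card_eq
    have h6 := D.card_ctx K hKc
    rw [hn] at h6 ⊢
    have : n ≤ 1 := by
      by_contra hc
      have := (pow_dvd_pow 2 (show 2 ≤ n by omega)).trans h6
      norm_num at this
    calc 2 ^ n ≤ 2 ^ 1 := Nat.pow_le_pow_right (by norm_num) this
      _ = 2 := by norm_num
  haveI : Nontrivial H := ⟨⟨⟨D.t, htH⟩, 1, fun h => D.t_ne (congrArg Subtype.val h)⟩⟩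
  obtain ⟨z, hz, hz1⟩ := (Subgroup.nontrivial_iff_exists_ne_one _).mp h2.center_nontrivial
  have hzc : ∀ g : H, g * z = z * g := mem_center_iff.mp hz
  have hzt : Commute (z : G) D.t := (congrArg Subtype.val (hzc ⟨D.t, htH⟩)).symm
  have hzx := hH _ z.2
  let Z : Subgroup G := zpowers (z : G) ⊔ zpowers D.t
  have hZle : Z ≤ H := sup_le (zpowers_le.mpr z.2) (zpowers_le.mpr htH)
  have hZc : ∀ g ∈ Z, Commute g D.t ∧ Commute g D.x := by
    have : Z ≤ centralizer ({D.t} : Set G) ⊓ centralizer ({D.x} : Set G) := sup_le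
      (zpowers_le.mpr ⟨mem_centralizer_singleton_iff.mpr hzt.eq, mem_centralizer_singleton_iff.mpr hzx.eq⟩)
      (zpowers_le.mpr ⟨mem_centralizer_singleton_iff.mpr rfl, mem_centralizer_singleton_iff.mpr D.tx⟩)
    exact fun g hg => ⟨mem_centralizer_singleton_iff.mp (this hg).1,
      mem_centralizer_singleton_iff.mp (this hg).2⟩
  have hzt' : (z : G) = D.t := by
    by_contra hne
    have hcard := key Z (h2.to_le hZle) hZc
    classical
    have h3 : ({1, (z : G), D.t} : Finset G).card = 3 := by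
      rw [Finset.card_insert_of_notMem, Finset.card_pair hne]
      simp only [Finset.mem_insert, Finset.mem_singleton]
      rintro (h | h)
      · exact hz1 (Subtype.ext h.symm)
      · exact D.t_ne h.symm
    have hsub : Nat.card ({1, (z : G), D.t} : Finset G) ≤ Nat.card Z :=
      Nat.card_le_card_of_injective (fun g => ⟨g.1, by
        have := g.2
        simp only [Finset.mem_insert, Finset.mem_singleton] at this
        rcases this with h | h | h <;> rw [h]
        · exact one_mem _
        · exact mem_sup_left (mem_zpowers _)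
        · exact mem_sup_right (mem_zpowers _)⟩) fun g g' h => by
          exact Subtype.ext (congrArg Subtype.val h :)
    rw [Nat.card_eq_fintype_card, Fintype.card_coe, h3] at hsub
    omega
  exact key H h2 fun g hg => ⟨by rw [← hzt']; exact congrArg Subtype.val (hzc ⟨g, hg⟩), hH g hg⟩

theorem Data.card_centralizer_x_cases [IsSimpleGroup G] (hcard : Nat.card G = 5616) :
    ∃ j, Nat.card (centralizer ({D.x} : Set G)) = 2 * 3 ^ j ∧ j ≤ 3 := by
  haveI : Fact (Nat.Prime 2) := ⟨Nat.prime_two⟩
  haveI : Fact (Nat.Prime 13) := ⟨by norm_num⟩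
  set C := centralizer ({D.x} : Set G)
  have htC : D.t ∈ C := mem_centralizer_singleton_iff.mpr D.tx
  have h2 : 2 ∣ Nat.card C := by
    rw [← D.t2, ← Subgroup.orderOf_mk D.t htC]
    exact orderOf_dvd_natCard _
  have h4 : ¬ 4 ∣ Nat.card C := by
    intro h
    let T : Subgroup C := zpowers ⟨D.t, htC⟩
    have hT : Nat.card T = 2 ^ 1 := by rw [Nat.card_zpowers, Subgroup.orderOf_mk, D.t2, pow_one]
    obtain ⟨K, hK, hTK⟩ := Sylow.exists_subgroup_card_pow_succ (n := 1) (by simpa using h) hT
    let K' : Subgroup G := K.map C.subtype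
    have hK' : Nat.card K' = 4 := by
      rw [← Nat.card_congr (equivMapOfInjective K _ C.subtype_injective).toEquiv, hK]; norm_num
    have := D.card_two_part (H := K')
      (fun g hg => by obtain ⟨g', -, rfl⟩ := hg; exact mem_centralizer_singleton_iff.mp g'.2)
      ⟨⟨D.t, htC⟩, hTK (mem_zpowers _), rfl⟩ (IsPGroup.of_card (n := 2) (by rw [hK']; norm_num))
    omega
  have h13 : ¬ 13 ∣ Nat.card C := by
    intro h
    obtain ⟨y, hy⟩ := exists_prime_orderOf_dvd_card' 13 h
    rw [← Subgroup.orderOf_coe] at hy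
    have hc := D.centralizer_thirteen hcard hy
    have := orderOf_dvd_natCard (⟨D.x, mem_centralizer_singleton_iff.mpr
      (mem_centralizer_singleton_iff.mp y.2).symm⟩ : centralizer ({(y : G)} : Set G))
    rw [hc, Subgroup.orderOf_mk, D.x3] at this
    norm_num at this
  have hd : Nat.card C ∣ 5616 := hcard ▸ card_subgroup_dvd_card C
  have hk : ∀ k ∈ Nat.divisors 5616, 2 ∣ k → ¬ 4 ∣ k → ¬ 13 ∣ k → ∃ j < 4, k = 2 * 3 ^ j := by
    decide +kernel
  obtain ⟨j, hj, hjk⟩ := hk _ (Nat.mem_divisors.mpr ⟨hd, by norm_num⟩) h2 h4 h13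
  exact ⟨j, hjk, by omega⟩

end CfsgLib.Recognition.GLTwoThree
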