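import Cfsg.Agent.Lib.Recognition.GLTwoThree.Plane

/-!
# Coordinates of the class of `x` as doubled flags
-/

set_option autoImplicit false

namespace CfsgLib.Recognition.GLTwoThree

open Subgroup CfsgLib.Recognition.CommutingGraphPSL33

variable {G : Type*} [Group G] [Finite G] {F : Frame G}

theorem Frame.exists_y (F : Frame G) : ∃ y : G, orderOf y = 13 := by
  haveI : Fact (Nat.Prime 13) := ⟨by norm_num⟩
  exact exists_prime_orderOf_dvd_card' 13 (by rw [F.card_G]; norm_num)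

variable {y : G} (hy : orderOf y = 13)
include hy

theorem pow_fin_add (a b : Fin 13) : y ^ ((a + b : Fin 13) : ℕ) = y ^ (a : ℕ) * y ^ (b : ℕ) := by
  rw [← pow_add, Fin.val_add]
  conv_rhs => rw [← pow_mod_orderOf, hy]

variable (α : Axis F)
include α

/-- Each coset of the normaliser contains exactly one power of `y`. -/
theorem Axis.exists_index (g : G) : ∃! i : Fin 13, (y ^ (i : ℕ))⁻¹ * g ∈ normalizer (α.A : Set G) := by
  classical
  set N := normalizer (α.A : Set G)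
  let f : Fin 13 → G ⧸ N := fun i => (y ^ (i : ℕ) : G)
  have hinj : Function.Injective f := by
    intro i j h
    have hm := QuotientGroup.eq.mp h
    have hij : y ^ (i : ℕ) * y ^ ((j - i : Fin 13) : ℕ) = y ^ (j : ℕ) := by
      rw [← pow_fin_add hy, add_sub_cancel]
    rw [← hij, inv_mul_cancel_left] at hm
    have h1 : orderOf (y ^ ((j - i : Fin 13) : ℕ)) ∣ 432 := by
      rw [← α.card_normalizer, ← Subgroup.orderOf_mk _ hm]
      exact orderOf_dvd_natCard _
    have h2 : orderOf (y ^ ((j - i : Fin 13) : ℕ)) ∣ 13 := by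
      conv_rhs => rw [← hy]
      exact orderOf_pow_dvd _
    have h3 := Nat.dvd_gcd h1 h2
    norm_num at h3
    have h4 : (13 : ℕ) ∣ ((j - i : Fin 13) : ℕ) := by
      have h6 := orderOf_dvd_of_pow_eq_one h3
      rwa [hy] at h6
    have h5 : j - i = 0 := Fin.ext (Nat.eq_zero_of_dvd_of_lt h4 (j - i).2)
    exact (sub_eq_zero.mp h5).symm
  have hcard : Nat.card (G ⧸ N) = 13 := by
    have := N.card_eq_card_quotient_mul_card_subgroup
    rw [F.card_G, α.card_normalizer] at this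
    omega
  obtain ⟨i, hi⟩ := ((Nat.bijective_iff_injective_and_card f).mpr ⟨hinj, by rw [hcard, Nat.card_fin]⟩).2
    (g : G ⧸ N)
  exact ⟨i, QuotientGroup.eq.mp hi, fun j hj => hinj ((QuotientGroup.eq.mpr hj).trans hi.symm)⟩

/-- The element lies in the conjugate of `A` numbered `i`. -/
def Axis.On (y : G) (i : Fin 13) (z : G) : Prop := (y ^ (i : ℕ))⁻¹ * z * y ^ (i : ℕ) ∈ α.A

theorem Axis.exists_on {z : G} (hz : IsConj z F.x) : ∃! i : Fin 13, α.On y i z := by
  obtain ⟨c, hc⟩ := isConj_iff.mp hz.symm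
  obtain ⟨i, hi, huniq⟩ := α.exists_index hy c
  refine ⟨i, ?_, fun j hj => huniq j ?_⟩
  · have := (mem_normalizer_iff.mp hi _).mp α.x_mem_A
    unfold Axis.On
    rw [← hc]
    convert this using 1
    group
  · unfold Axis.On at hj
    rw [← hc] at hj
    have h := α.conj_eq_self (g := c⁻¹ * y ^ (j : ℕ)) (by
      convert hj using 1
      group)
    have h' := inv_mem h
    rwa [mul_inv_rev, inv_inv] at h'

open Classical in
/-- The number of the conjugate of `A` through an element. -/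
noncomputable def Axis.idx (z : G) : Fin 13 := if h : ∃ i, α.On y i z then h.choose else 0

theorem Axis.idx_on {z : G} (hz : IsConj z F.x) : α.On y (α.idx (y := y) z) z := by
  have h : ∃ i, α.On y i z := (α.exists_on hy hz).exists
  rw [Axis.idx, dif_pos h]
  exact h.choose_spec

theorem Axis.idx_eq {z : G} (hz : IsConj z F.x) {i : Fin 13} (hi : α.On y i z) :
    α.idx (y := y) z = i :=
  (α.exists_on hy hz).unique (α.idx_on hy hz) hi

theorem Axis.idx_of_mem {z : G} (hz : z ∈ α.A) (hz1 : z ≠ 1) : α.idx (y := y) z = 0 :=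
  α.idx_eq hy (α.isConj_of_mem hz hz1) (by simpa [Axis.On] using hz)

theorem Axis.idx_shift {z : G} (hz : IsConj z F.x) (n : Fin 13) :
    α.idx (y := y) (y ^ (n : ℕ) * z * (y ^ (n : ℕ))⁻¹) = n + α.idx (y := y) z := by
  refine α.idx_eq hy ((isConj_iff.mpr ⟨y ^ (n : ℕ), rfl⟩ : IsConj z _).symm.trans hz) ?_
  unfold Axis.On
  rw [pow_fin_add hy]
  convert α.idx_on hy hz using 1
  unfold Axis.On
  group

theorem Axis.idx_eq_iff {c z w : G} (hc : c * F.x * c⁻¹ = z) (hw : IsConj w F.x) :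
    α.idx (y := y) z = α.idx (y := y) w ↔ c⁻¹ * w * c ∈ α.A := by
  have hz : IsConj z F.x := (isConj_iff.mpr ⟨c, hc⟩ : IsConj F.x z).symm
  have h1 := α.idx_on hy hz
  unfold Axis.On at h1
  set g := y ^ ((α.idx (y := y) z : Fin 13) : ℕ)
  rw [← hc] at h1
  have hN : c⁻¹ * g ∈ normalizer (α.A : Set G) := α.conj_eq_self (by convert h1 using 1; group)
  constructor
  · intro h
    have h2 := α.idx_on hy hw
    unfold Axis.On at h2
    rw [← h] at h2
    have := (mem_normalizer_iff.mp hN _).mp h2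
    convert this using 1
    simp only [g]
    group
  · intro h
    refine (α.idx_eq hy hw ?_).symm
    unfold Axis.On
    have := (mem_normalizer_iff.mp (inv_mem hN) _).mp h
    convert this using 1
    simp only [g]
    group

theorem Axis.idx_inv {z : G} (hz : IsConj z F.x) : α.idx (y := y) z⁻¹ = α.idx (y := y) z := by
  have hzi : IsConj z⁻¹ F.x := by
    obtain ⟨c, hc⟩ := isConj_iff.mp hz.symm
    refine (isConj_iff.mpr ⟨c, ?_⟩ : IsConj F.x⁻¹ z⁻¹).symm.trans F.toData.x_conj_inv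
    rw [← conj_inv, hc]
  refine α.idx_eq hy hzi ?_
  have h := inv_mem (α.idx_on hy hz)
  unfold Axis.On
  convert h using 1
  group

theorem Axis.commute_of_idx {z w : G} (hz : IsConj z F.x) (hw : IsConj w F.x)
    (h : α.idx (y := y) z = α.idx (y := y) w) : Commute z w := by
  obtain ⟨c, hc⟩ := isConj_iff.mp hz.symm
  have h1 := (α.idx_eq_iff hy hc hw).mp h
  have h2 := (Commute.conj_iff c).mpr (commute_of_mem_pair α.x_mem_A h1)
  rw [hc, show c * (c⁻¹ * w * c) * c⁻¹ = w by group] at h2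
  exact h2

theorem Axis.idx_conj {z w : G} (hz : IsConj z F.x) (hw : IsConj w F.x) (g : G)
    (h : α.idx (y := y) z = α.idx (y := y) w) :
    α.idx (y := y) (g * z * g⁻¹) = α.idx (y := y) (g * w * g⁻¹) := by
  obtain ⟨c, hc⟩ := isConj_iff.mp hz.symm
  refine (α.idx_eq_iff hy (c := g * c) (by rw [← hc]; group)
    ((isConj_iff.mpr ⟨g, rfl⟩ : IsConj w _).symm.trans hw)).mpr ?_
  convert (α.idx_eq_iff hy hc hw).mp h using 1
  group

omit α

variable (X : Axes F)
include X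

theorem Axes.commute_iff {z w : G} (hz : IsConj z F.x) (hw : IsConj w F.x) :
    Commute z w ↔ (X.α.idx (y := y) z = X.α.idx (y := y) w ∨
      X.β.idx (y := y) z = X.β.idx (y := y) w) := by
  constructor
  · intro h
    obtain ⟨c, hc⟩ := isConj_iff.mp hz.symm
    have hw' : IsConj (c⁻¹ * w * c) F.x :=
      (isConj_iff.mpr ⟨c, by group⟩ : IsConj (c⁻¹ * w * c) w).trans hw
    have hR : c⁻¹ * w * c ∈ F.R := by
      refine (F.mem_R _).mpr ⟨?_, ?_⟩
      · have h2 := (Commute.conj_iff c⁻¹).mpr h.symm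
        rw [inv_inv, ← hc, show c⁻¹ * (c * F.x * c⁻¹) * c = F.x by group] at h2
        exact h2
      · obtain ⟨d, hd⟩ := isConj_iff.mp hw'.symm
        rw [← hd, conj_pow, show (27 : ℕ) = 3 * 9 from rfl, pow_mul, F.toData.x_cube, one_pow]
        group
    rcases X.class_in_R hR hw' with h1 | h1
    · exact Or.inl ((X.α.idx_eq_iff hy hc hw).mpr h1)
    · exact Or.inr ((X.β.idx_eq_iff hy hc hw).mpr h1)
  · rintro (h | h)
    · exact X.α.commute_of_idx hy hz hw h
    · exact X.β.commute_of_idx hy hz hw h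

theorem Axes.eq_or_inv {z w : G} (hz : IsConj z F.x) (hw : IsConj w F.x)
    (h1 : X.α.idx (y := y) z = X.α.idx (y := y) w) (h2 : X.β.idx (y := y) z = X.β.idx (y := y) w) :
    w = z ∨ w = z⁻¹ := by
  obtain ⟨c, hc⟩ := isConj_iff.mp hz.symm
  obtain ⟨k, hk⟩ := mem_powers_iff_mem_zpowers.mpr
    (X.inter ((X.α.idx_eq_iff hy hc hw).mp h1) ((X.β.idx_eq_iff hy hc hw).mp h2))
  simp only at hk
  rw [pow_eq_pow_mod k F.toData.x_cube] at hk
  have hw1 : w ≠ 1 := fun h => by
    obtain ⟨d, hd⟩ := isConj_iff.mp hw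
    rw [h] at hd
    exact F.toData.x_ne (by rw [← hd]; group)
  rcases (show k % 3 = 0 ∨ k % 3 = 1 ∨ k % 3 = 2 by omega) with e | e | e <;> rw [e] at hk
  · exact absurd (by
      calc w = c * (c⁻¹ * w * c) * c⁻¹ := by group
        _ = 1 := by rw [← hk]; group) hw1
  · left; rw [← hc, ← pow_one F.x, hk]; group
  · right
    have hx2 : F.x⁻¹ = F.x ^ 2 :=
      inv_eq_of_mul_eq_one_right (by rw [← pow_succ']; exact F.toData.x_cube)
    calc w = c * (c⁻¹ * w * c) * c⁻¹ := by group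
      _ = c * F.x⁻¹ * c⁻¹ := by rw [hx2, hk]
      _ = z⁻¹ := by rw [← hc, conj_inv]

/-- Two conjugates of `A` share at most one conjugate of `B`. -/
theorem Axes.plane {z1 z2 w1 w2 : G} (hz1 : IsConj z1 F.x) (hz2 : IsConj z2 F.x)
    (hw1 : IsConj w1 F.x) (hw2 : IsConj w2 F.x)
    (hzz : X.α.idx (y := y) z1 = X.α.idx (y := y) z2)
    (hww : X.α.idx (y := y) w1 = X.α.idx (y := y) w2)
    (hne : X.α.idx (y := y) z1 ≠ X.α.idx (y := y) w1)
    (h1 : X.β.idx (y := y) z1 = X.β.idx (y := y) w1)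
    (h2 : X.β.idx (y := y) z2 = X.β.idx (y := y) w2) :
    X.β.idx (y := y) z1 = X.β.idx (y := y) z2 := by
  by_contra hne2
  obtain ⟨c, hc⟩ := isConj_iff.mp hz1.symm
  have hA := (X.α.idx_eq_iff hy hc hz2).mp hzz
  have hB := (X.β.idx_eq_iff hy hc hw1).mp h1
  have hzB : c⁻¹ * z2 * c ∉ X.β.A := fun h => hne2 ((X.β.idx_eq_iff hy hc hz2).mpr h)
  have hwA : c⁻¹ * w1 * c ∉ X.α.A := fun h => hne ((X.α.idx_eq_iff hy hc hw1).mpr h)
  have hconj : ∀ g u : G, IsConj u F.x → IsConj (g * u * g⁻¹) F.x := fun g u hu =>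
    (isConj_iff.mpr ⟨g, rfl⟩ : IsConj u (g * u * g⁻¹)).symm.trans hu
  have hz2z1 : Commute z2 z1 := (X.α.commute_of_idx hy hz1 hz2 hzz).symm
  have hz2w2 : Commute z2 w2 := X.β.commute_of_idx hy hz2 hw2 h2
  -- `z2` fixes both conjugates through `w1`
  have hm1 : X.α.idx (y := y) (z2 * w1 * z2⁻¹) = X.α.idx (y := y) w1 := by
    rw [X.α.idx_conj hy hw1 hw2 z2 hww, hz2w2.eq, mul_inv_cancel_right, hww]
  have hm2 : X.β.idx (y := y) (z2 * w1 * z2⁻¹) = X.β.idx (y := y) w1 := by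
    rw [X.β.idx_conj hy hw1 hz1 z2 h1.symm, hz2z1.eq, mul_inv_cancel_right, h1]
  have hcw : Commute z2 w1 := by
    rcases X.eq_or_inv hy hw1 (hconj z2 w1 hw1) hm1.symm hm2.symm with h | h
    · exact mul_inv_eq_iff_eq_mul.mp h
    · exfalso
      obtain ⟨d, hd⟩ := isConj_iff.mp hz2.symm
      have h3 : z2 ^ 3 = 1 := by
        rw [← hd, conj_pow, F.toData.x_cube]; group
      obtain ⟨d', hd'⟩ := isConj_iff.mp hw1.symm
      have hw3 : w1 ^ 3 = 1 := by
        rw [← hd', conj_pow, F.toData.x_cube]; group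
      have hsq : z2 * (z2 * w1 * z2⁻¹) * z2⁻¹ = w1 := by rw [h, ← conj_inv, h, inv_inv]
      have h4 : z2 ^ 4 * w1 * (z2 ^ 4)⁻¹ = w1 := by
        calc z2 ^ 4 * w1 * (z2 ^ 4)⁻¹
            = z2 * (z2 * (z2 * (z2 * w1 * z2⁻¹) * z2⁻¹) * z2⁻¹) * z2⁻¹ := by
              simp only [pow_succ, pow_zero, one_mul, mul_inv_rev, mul_assoc]
          _ = w1 := by rw [hsq, hsq]
      rw [show z2 ^ 4 = z2 by rw [pow_succ, h3, one_mul], h] at h4
      have : w1 ^ 2 = 1 := by rw [sq]; exact inv_eq_iff_mul_eq_one.mp h4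
      have hw1' : w1 = 1 := by rw [pow_succ, this, one_mul] at hw3; exact hw3
      exact F.toData.x_ne (by
        have := hd'
        rw [hw1', conj_eq_one_iff] at this
        exact this)
  have hcw' : Commute (c⁻¹ * z2 * c) (c⁻¹ * w1 * c) := by
    have := (Commute.conj_iff c⁻¹).mpr hcw
    rwa [inv_inv] at this
  obtain ⟨i, j, hij⟩ := exists_fin_of_mem_pair hA
  obtain ⟨k, l, hkl⟩ := exists_fin_of_mem_pair hB
  have hj : j ≠ 0 := by
    rintro rfl
    refine hzB ?_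
    rw [hij, Fin.val_zero, pow_zero, mul_one]
    exact pow_mem X.β.x_mem_A _
  have hl : l ≠ 0 := by
    rintro rfl
    refine hwA ?_
    rw [hkl, Fin.val_zero, pow_zero, mul_one]
    exact pow_mem X.α.x_mem_A _
  rw [hij, hkl] at hcw'
  have e1 : Commute (X.α.a ^ (j : ℕ)) (F.x ^ (k : ℕ) * X.β.a ^ (l : ℕ)) := by
    have hxk : Commute (F.x ^ (i : ℕ)) (F.x ^ (k : ℕ) * X.β.a ^ (l : ℕ)) :=
      ((Commute.refl F.x).pow_pow _ _).mul_right (X.β.commute_xa.pow_pow _ _)
    have := hxk.inv_left.mul_left hcw'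
    rwa [inv_mul_cancel_left] at this
  have e2 : Commute (X.α.a ^ (j : ℕ)) (X.β.a ^ (l : ℕ)) := by
    have := ((X.α.commute_xa.symm.pow_pow (j : ℕ) (k : ℕ)).inv_right).mul_right e1
    rwa [inv_mul_cancel_left] at this
  have root : ∀ {u : G} (n : Fin 3), n ≠ 0 → u ^ 3 = 1 → u = (u ^ (n : ℕ)) ^ (n : ℕ) := by
    intro u n hn hu
    rw [← pow_mul, pow_eq_pow_mod _ hu]
    have := Fin.val_ne_zero_iff.mpr hn
    rcases (show (n : ℕ) = 1 ∨ (n : ℕ) = 2 by omega) with e | e <;> rw [e] <;> norm_num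
  refine X.not_commute ?_
  rw [root j hj X.α.a3, root l hl X.β.a3]
  exact e2.pow_pow _ _

omit hy in
theorem Axes.coset_mem (k : ℕ) : F.x ^ k * X.α.a ∈ X.α.A :=
  mul_mem (pow_mem X.α.x_mem_A k) X.α.a_mem_A

omit hy in
theorem Axes.coset_ne (k : ℕ) : F.x ^ k * X.α.a ≠ 1 := fun h => X.α.a_notMem (by
  rw [eq_inv_of_mul_eq_one_right h, inv_mem_iff]
  exact npow_mem_zpowers _ _)

omit hy in
/-- The four flags at the first point. -/
theorem Axes.exists_pencil : ∃ r : Fin 4 → G, (∀ m, r m ∈ X.α.A ∧ r m ≠ 1) ∧ r 0 = F.x ∧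
    (∀ m n, r m ∈ X.β.A → r n ∈ X.β.A → m = n) ∧ ∀ m n, (r n = r m ∨ r n = (r m)⁻¹) → m = n := by
  let r : Fin 4 → G := ![F.x, X.α.a, F.x * X.α.a, F.x ^ 2 * X.α.a]
  have hr : ∀ m, r m ∈ X.α.A ∧ r m ≠ 1 := by
    intro m
    fin_cases m
    · exact ⟨X.α.x_mem_A, F.toData.x_ne⟩
    · exact ⟨X.α.a_mem_A, X.α.a_ne⟩
    · exact ⟨by simpa [r] using X.coset_mem 1, by simpa [r] using X.coset_ne 1⟩
    · exact ⟨X.coset_mem 2, X.coset_ne 2⟩
  let p : Fin 4 → Fin 3 × Fin 3 := ![(1, 0), (0, 1), (1, 1), (2, 1)]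
  have hp : ∀ m, r m = F.x ^ ((p m).1 : ℕ) * X.α.a ^ ((p m).2 : ℕ) := by
    intro m; fin_cases m <;> simp [r, p]
  have coord := pair_coord F.toData.x_ne X.α.a_notMem F.toData.x_cube X.α.a3
  have hinv : ∀ i j : Fin 3, (F.x ^ (i : ℕ) * X.α.a ^ (j : ℕ))⁻¹ =
      F.x ^ ((-i : Fin 3) : ℕ) * X.α.a ^ ((-j : Fin 3) : ℕ) := by
    intro i j
    rw [inv_eq_iff_mul_eq_one, mul_assoc, ← mul_assoc (X.α.a ^ (j : ℕ)),
      (X.α.commute_xa.symm.pow_pow (j : ℕ) _).eq, mul_assoc, ← pow_add, ← mul_assoc, ← pow_add,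
      pow_eq_pow_mod _ F.toData.x_cube, pow_eq_pow_mod (_ + _) X.α.a3]
    rw [show ((i : ℕ) + ((-i : Fin 3) : ℕ)) % 3 = 0 by revert i; decide,
      show ((j : ℕ) + ((-j : Fin 3) : ℕ)) % 3 = 0 by revert j; decide]
    simp
  have hdist : ∀ m n, (r n = r m ∨ r n = (r m)⁻¹) → m = n := by
    intro m n h
    rw [hp m, hp n, hinv] at h
    refine (show ∀ m n : Fin 4, (p n = p m ∨ p n = (-(p m).1, -(p m).2)) → m = n from
      fun m n => by revert m n; simp only [p]; decide) m n ?_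
    rcases h with h | h
    · exact Or.inl (Prod.ext (coord _ _ _ _ h).1 (coord _ _ _ _ h).2)
    · exact Or.inr (Prod.ext (coord _ _ _ _ h).1 (coord _ _ _ _ h).2)
  refine ⟨r, hr, rfl, fun m n hm hn => ?_, hdist⟩
  have : ∀ m, r m ∈ X.β.A → m = 0 := by
    intro m hm
    by_contra hm0
    have hx := X.inter (hr m).1 hm
    obtain ⟨k, hk⟩ := mem_powers_iff_mem_zpowers.mpr hx
    simp only at hk
    rw [pow_eq_pow_mod k F.toData.x_cube, hp m] at hk
    have h := coord ⟨k % 3, Nat.mod_lt _ (by norm_num)⟩ 0 _ _ (by simpa using hk)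
    revert hm0
    have h2 : (p m).2 = 0 := h.2.symm
    revert h2
    clear * -
    revert m
    decide
  rw [this m hm, this n hn]

theorem Axes.exists_equiv : ∃ e : Fin 104 ≃ {g : G // IsConj g F.x},
    ∀ i j, (e i).1 * (e j).1 = (e j).1 * (e i).1 ↔ adjF i j := by
  classical
  obtain ⟨r, hr, hr0, -, hdist⟩ := X.exists_pencil
  have hrc : ∀ m, IsConj (r m) F.x := fun m => X.α.isConj_of_mem (hr m).1 (hr m).2
  have hrP : ∀ m, X.α.idx (y := y) (r m) = 0 := fun m => X.α.idx_of_mem hy (hr m).1 (hr m).2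
  let d : Fin 4 → Fin 13 := fun m => X.β.idx (y := y) (r m)
  have hd0 : d 0 = 0 := by
    show X.β.idx (y := y) (r 0) = 0
    rw [hr0]
    exact X.β.idx_of_mem hy X.β.x_mem_A F.toData.x_ne
  have hdinj : ∀ m n, d m = d n → m = n := fun m n h =>
    hdist m n (X.eq_or_inv hy (hrc m) (hrc n) (by rw [hrP, hrP]) h)
  have hv : (![0, d 1, d 2, d 3] : Fin 4 → Fin 13) = d := by
    funext m; fin_cases m <;> simp [hd0]
  have hplanar : ∀ i j k l : Fin 4, i ≠ j → d i - d j = d k - d l → i = k := by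
    intro i j k l hij he
    by_contra hik
    have hn : d i - d k ≠ 0 := sub_ne_zero.mpr fun h => hik (hdinj _ _ h)
    let sh : G → G := fun g => y ^ ((d i - d k : Fin 13) : ℕ) * g * (y ^ ((d i - d k : Fin 13) : ℕ))⁻¹
    have hsh : ∀ m, IsConj (sh (r m)) F.x := fun m =>
      (isConj_iff.mpr ⟨_, rfl⟩ : IsConj (r m) (sh (r m))).symm.trans (hrc m)
    refine hij (hdinj _ _ (X.plane hy (hrc i) (hrc j) (hsh k) (hsh l) ?_ ?_ ?_ ?_ ?_))
    · rw [hrP, hrP]
    · rw [X.α.idx_shift hy (hrc k), X.α.idx_shift hy (hrc l), hrP, hrP]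
    · rw [X.α.idx_shift hy (hrc k), hrP, hrP, add_zero]; exact hn.symm
    · rw [X.β.idx_shift hy (hrc k)]; exact (sub_add_cancel _ _).symm
    · rw [X.β.idx_shift hy (hrc l)]
      show d j = d i - d k + d l
      have : d i - d k = d j - d l := by
        rw [sub_eq_sub_iff_add_eq_add] at he ⊢
        rw [he, add_comm]
      rw [this, sub_add_cancel]
  obtain ⟨k, hk, e0, hke⟩ := planar_affine (d 1) (d 2) (d 3) (by rw [hv]; exact hplanar)
  rw [hv] at hke
  -- realise each flag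
  have hreal : ∀ p l : Fin 13, inc p l = true → ∃ g, IsConj g F.x ∧
      X.α.idx (y := y) g = k * p ∧ X.β.idx (y := y) g = k * l + e0 := by
    intro p l h
    rw [inc_translate] at h
    obtain ⟨m, hm⟩ := (hke (p - l)).mp h
    refine ⟨y ^ ((k * p : Fin 13) : ℕ) * r m * (y ^ ((k * p : Fin 13) : ℕ))⁻¹,
      (isConj_iff.mpr ⟨_, rfl⟩ : IsConj (r m) _).symm.trans (hrc m), ?_, ?_⟩
    · rw [X.α.idx_shift hy (hrc m), hrP, add_zero]
    · rw [X.β.idx_shift hy (hrc m)]
      show k * p + d m = k * l + e0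
      rw [← hm]
      have hmul : ∀ a b c : Fin 13, a * (b - c) = a * b - a * c := by decide +kernel
      rw [hmul]
      abel
  choose zf hzc hzP hzL using hreal
  let f : Fin 104 → {g : G // IsConj g F.x} := fun i =>
    if i.1 % 2 = 0 then ⟨zf _ _ (inc_pt_ln i), hzc _ _ _⟩
    else ⟨(zf _ _ (inc_pt_ln i))⁻¹, by
      obtain ⟨c, hc⟩ := isConj_iff.mp (hzc _ _ (inc_pt_ln i)).symm
      refine (isConj_iff.mpr ⟨c, ?_⟩ : IsConj F.x⁻¹ _).symm.trans F.toData.x_conj_inv
      rw [← conj_inv, hc]⟩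
  have hP : ∀ i, X.α.idx (y := y) (f i).1 = k * pt i := by
    intro i
    by_cases h : i.1 % 2 = 0
    · simp only [f, if_pos h]; exact hzP _ _ _
    · simp only [f, if_neg h]; rw [X.α.idx_inv hy (hzc _ _ _)]; exact hzP _ _ _
  have hL : ∀ i, X.β.idx (y := y) (f i).1 = k * ln i + e0 := by
    intro i
    by_cases h : i.1 % 2 = 0
    · simp only [f, if_pos h]; exact hzL _ _ _
    · simp only [f, if_neg h]; rw [X.β.idx_inv hy (hzc _ _ _)]; exact hzL _ _ _
  have hone : ∀ g : G, IsConj g F.x → g⁻¹ ≠ g := by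
    intro g hg h
    obtain ⟨c, hc⟩ := isConj_iff.mp hg.symm
    rw [← hc, conj_inv] at h
    have h2 := mul_left_cancel (mul_right_cancel h)
    have h3 : orderOf F.x ∣ 2 := orderOf_dvd_of_pow_eq_one (by
      rw [sq]; exact inv_eq_iff_mul_eq_one.mp h2)
    rw [F.x3] at h3
    norm_num at h3
  have hf : Function.Injective f := by
    intro i j h
    have hp : pt i = pt j := affine_injective k hk _ _ (by rw [← hP, ← hP, h])
    have hl : ln i = ln j := affine_injective k hk _ _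
      (add_right_cancel (b := e0) (by rw [← hL, ← hL, h]))
    refine flag_unique i j hp hl ?_
    have hz : zf _ _ (inc_pt_ln i) = zf _ _ (inc_pt_ln j) := by congr 1
    have hv' := congrArg Subtype.val h
    by_cases hi : i.1 % 2 = 0 <;> by_cases hj : j.1 % 2 = 0
    · omega
    · simp only [f, if_pos hi, if_neg hj, hz] at hv'
      exact absurd hv'.symm (hone _ (hzc _ _ _))
    · simp only [f, if_neg hi, if_pos hj, hz] at hv'
      exact absurd hv' (hone _ (hzc _ _ _))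
    · omega
  refine ⟨Equiv.ofBijective f ((Nat.bijective_iff_injective_and_card f).mpr
    ⟨hf, by rw [Nat.card_fin, F.card_class]⟩), fun i j => ?_⟩
  simp only [Equiv.ofBijective_apply]
  rw [show (f i).1 * (f j).1 = (f j).1 * (f i).1 ↔ Commute (f i).1 (f j).1 from Iff.rfl,
    X.commute_iff hy (f i).2 (f j).2, hP, hP, hL, hL]
  unfold adjF
  constructor
  · rintro (h | h)
    · exact Or.inl (affine_injective k hk _ _ h)
    · exact Or.inr (affine_injective k hk _ _ (add_right_cancel h))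
  · rintro (h | h)
    · exact Or.inl (by rw [h])
    · exact Or.inr (by rw [h])

end CfsgLib.Recognition.GLTwoThree
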