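import Mathlib.Data.Fintype.Prod
import Mathlib.Algebra.Group.Fin.Basic
import Mathlib.Data.Fin.VecNotation
import Mathlib.Tactic.FinCases
import Cfsg.Agent.Lib.Recognition.CommutingGraphPSL33.Geometry

/-!
# Planar difference sets modulo 13 are affinely equivalent
-/

set_option autoImplicit false

namespace CfsgLib.Recognition.GLTwoThree

open CfsgLib.Recognition.CommutingGraphPSL33

/-- Planar difference sets through zero are affine images of the standard one. -/
theorem planar_affine : ∀ a b c : Fin 13,
    (∀ i j k l : Fin 4, i ≠ j → (![0, a, b, c] : Fin 4 → Fin 13) i - ![0, a, b, c] j =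
      ![0, a, b, c] k - ![0, a, b, c] l → i = k) →
    ∃ k : Fin 13, k ≠ 0 ∧ ∃ e : Fin 13, ∀ i : Fin 13,
      (inc i 0 = true ↔ ∃ m : Fin 4, e - k * i = ![0, a, b, c] m) := by
  decide +kernel

theorem inc_translate : ∀ p l : Fin 13, inc p l = inc (p - l) 0 := by decide +kernel

theorem flag_unique : ∀ i j : Fin 104, pt i = pt j → ln i = ln j → i.1 % 2 = j.1 % 2 → i = j := by
  decide +kernel

theorem affine_injective : ∀ k : Fin 13, k ≠ 0 → ∀ a b : Fin 13, k * a = k * b → a = b := by
  decide +kernel

end CfsgLib.Recognition.GLTwoThree
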