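import Cfsg.Agent.Lib.Recognition.GLTwoThree.Radical

/-!
# The radical is extraspecial
-/

set_option autoImplicit false

namespace CfsgLib.Recognition.GLTwoThree

open Subgroup

variable {G : Type*} [Group G] [Finite G]

/-- A group with the centraliser data, simple of order 5616, with the radical of the centraliser of `x`. -/
structure Frame (G : Type*) [Group G] extends Data G where
  simple : IsSimpleGroup G
  card_G : Nat.card G = 5616
  R : Subgroup G
  card_R : Nat.card R = 27
  mem_R : ∀ g, g ∈ R ↔ g * x = x * g ∧ g ^ 27 = 1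
  cover : ∀ g, g * x = x * g → g ∈ R ∨ g * t ∈ R
  card_cx : Nat.card (Subgroup.centralizer ({x} : Set G)) = 54

theorem exists_frame (D : Data G) [IsSimpleGroup G] (hcard : Nat.card G = 5616) :
    Nonempty (Frame G) := by
  have h54 := D.card_centralizer_x hcard
  obtain ⟨R, hR, hRC, hmem, hmul⟩ := exists_index_two (m := 3) (C := centralizer ({D.x} : Set G))
    (by rw [h54]; norm_num)
  have htC : D.t ∈ centralizer ({D.x} : Set G) := mem_centralizer_singleton_iff.mpr D.tx
  have htR : D.t ∉ R := fun h => by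
    have := orderOf_dvd_natCard (⟨D.t, h⟩ : R)
    rw [hR, Subgroup.orderOf_mk, D.t2] at this
    norm_num at this
  refine ⟨{ toData := D, simple := inferInstance, card_G := hcard, R := R, card_R := by rw [hR]; norm_num,
            mem_R := fun g => ⟨fun hg => ⟨mem_centralizer_singleton_iff.mp (hRC hg), ?_⟩,
              fun hg => hmem g (mem_centralizer_singleton_iff.mpr hg.1) (by norm_num; exact hg.2)⟩,
            cover := fun g hg => ?_, card_cx := h54 }⟩
  · have h := pow_card_eq_one' (x := (⟨g, hg⟩ : R))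
    rw [hR] at h
    simpa using congrArg Subtype.val h
  · rw [hmul g (mem_centralizer_singleton_iff.mpr hg) D.t htC]
    tauto

variable (F : Frame G)
include F

theorem Frame.x_mem : F.x ∈ F.R :=
  (F.mem_R _).mpr ⟨rfl, by rw [show 27 = 3 * 9 from rfl, pow_mul, F.toData.x_cube, one_pow]⟩

theorem Frame.conj_mem {g r : G} (hg : g * F.x * g⁻¹ = F.x ∨ g * F.x * g⁻¹ = F.x⁻¹) (hr : r ∈ F.R) :
    g * r * g⁻¹ ∈ F.R := by
  obtain ⟨h1, h2⟩ := (F.mem_R r).mp hr
  refine (F.mem_R _).mpr ⟨(F.toData.conj_mem_centralizer hg h1).eq, ?_⟩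
  rw [conj_pow, h2]; group

theorem Frame.exists_conj_mem {y : G} (hy : y ^ 27 = 1) : ∃ c : G, c * y * c⁻¹ ∈ F.R := by
  haveI : Fact (Nat.Prime 3) := ⟨Nat.prime_three⟩
  have hp : IsPGroup 3 (zpowers y) := by
    have hd : orderOf y ∣ 3 ^ 3 := orderOf_dvd_of_pow_eq_one (by norm_num; exact hy)
    obtain ⟨k, -, hk⟩ := (Nat.dvd_prime_pow Nat.prime_three).mp hd
    exact IsPGroup.of_card (n := k) (by rw [Nat.card_zpowers, hk])
  obtain ⟨S, hS⟩ := hp.exists_le_sylow
  let P : Sylow 3 G := Sylow.ofCard F.R (by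
    rw [F.card_R, F.card_G, show 5616 = 3 ^ 3 * 208 by norm_num,
      Nat.factorization_mul (by norm_num) (by norm_num), Finsupp.add_apply,
      Nat.Prime.factorization_pow (by norm_num), Finsupp.single_eq_same,
      Nat.factorization_eq_zero_of_not_dvd (by norm_num)]
    norm_num)
  obtain ⟨c, hc⟩ := MulAction.exists_smul_eq G S P
  refine ⟨c, ?_⟩
  have : c * y * c⁻¹ ∈ (P : Subgroup G) := by
    rw [← hc, Sylow.coe_subgroup_smul]
    exact ⟨y, hS (mem_zpowers y), rfl⟩
  rwa [Sylow.coe_ofCard] at this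

theorem Frame.not_comm : ¬ ∀ g ∈ F.R, ∀ h ∈ F.R, Commute g h := by
  classical
  intro hab
  haveI := F.simple
  haveI : Fact (Nat.Prime 3) := ⟨Nat.prime_three⟩
  haveI : Fact (Nat.Prime 2) := ⟨Nat.prime_two⟩
  -- an element of order three has only one abelian subgroup of order 27 in its centraliser
  have huniq : ∀ y : G, orderOf y = 3 → ∀ K : Subgroup G, Nat.card K = 27 →
      (∀ g ∈ K, Commute g y) → ∀ L : Subgroup G, Nat.card L = 27 → (∀ g ∈ L, Commute g y) → K = L := by
    intro y hy K hK hKc L hL hLc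
    by_cases hx : IsConj y F.x
    · obtain ⟨c, hc⟩ := isConj_iff.mp hx
      have key : ∀ K : Subgroup G, Nat.card K = 27 → (∀ g ∈ K, Commute g y) →
          K.map (MulAut.conj c).toMonoidHom = F.R := by
        intro K hK hKc
        refine eq_of_le_of_card_ge ?_ (by
          rw [F.card_R, ← Nat.card_congr (equivMapOfInjective K _ (MulAut.conj c).injective).toEquiv,
            hK])
        rintro _ ⟨g, hg, rfl⟩
        refine (F.mem_R _).mpr ⟨?_, ?_⟩
        · rw [← hc]; exact ((Commute.conj_iff c).mpr (hKc g hg)).eq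
        · have h := pow_card_eq_one' (x := (⟨g, hg⟩ : K))
          rw [hK] at h
          show (c * g * c⁻¹) ^ 27 = 1
          rw [conj_pow, show g ^ 27 = 1 by simpa using congrArg Subtype.val h]
          group
      exact map_injective (MulAut.conj c).injective ((key K hK hKc).trans (key L hL hLc).symm)
    · set C := centralizer ({y} : Set G)
      have hKC : K ≤ C := fun g hg => mem_centralizer_singleton_iff.mpr (hKc g hg).eq
      have hLC : L ≤ C := fun g hg => mem_centralizer_singleton_iff.mpr (hLc g hg).eq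
      have hd : Nat.card C ∣ 5616 := F.card_G ▸ card_subgroup_dvd_card C
      have h2 : ¬ 2 ∣ Nat.card C := fun h => by
        obtain ⟨i, hi⟩ := exists_prime_orderOf_dvd_card' 2 h
        exact hx (F.toData.conj_of_involution (by rwa [← Subgroup.orderOf_coe] at hi) hy
          (mem_centralizer_singleton_iff.mp i.2))
      have h13 : ¬ 13 ∣ Nat.card C := fun h => by
        haveI : Fact (Nat.Prime 13) := ⟨by norm_num⟩
        obtain ⟨q, hq⟩ := exists_prime_orderOf_dvd_card' 13 h
        rw [← Subgroup.orderOf_coe] at hq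
        have hc := F.toData.centralizer_thirteen F.card_G hq
        have := orderOf_dvd_natCard (⟨y, mem_centralizer_singleton_iff.mpr
          (mem_centralizer_singleton_iff.mp q.2).symm⟩ : centralizer ({(q : G)} : Set G))
        rw [hc, Subgroup.orderOf_mk, hy] at this
        norm_num at this
      have hk : ∀ k ∈ Nat.divisors 5616, ¬ 2 ∣ k → ¬ 13 ∣ k → k ≤ 27 := by decide +kernel
      have hle := hk _ (Nat.mem_divisors.mpr ⟨hd, by norm_num⟩) h2 h13
      exact (eq_of_le_of_card_ge hKC (by rw [hK]; exact hle)).trans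
        (eq_of_le_of_card_ge hLC (by rw [hL]; exact hle)).symm
  -- the Sylow subgroups
  have hR3 : Nat.card F.R = 3 ^ (Nat.card G).factorization 3 := by
    rw [F.card_R, F.card_G, show 5616 = 3 ^ 3 * 208 by norm_num,
      Nat.factorization_mul (by norm_num) (by norm_num), Finsupp.add_apply,
      Nat.Prime.factorization_pow (by norm_num), Finsupp.single_eq_same,
      Nat.factorization_eq_zero_of_not_dvd (by norm_num)]
    norm_num
  let P : Sylow 3 G := Sylow.ofCard F.R hR3
  have hP : (P : Subgroup G) = F.R := Sylow.coe_ofCard ..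
  have hcardS : ∀ S : Sylow 3 G, Nat.card (S : Subgroup G) = 27 := fun S => by
    rw [S.card_eq_multiplicity, ← hR3, F.card_R]
  have habel : ∀ S : Sylow 3 G, ∀ g ∈ (S : Subgroup G), ∀ h ∈ (S : Subgroup G), Commute g h := by
    intro S g hg h hh
    obtain ⟨c, hc⟩ := MulAction.exists_smul_eq G S P
    have hm : ∀ k ∈ (S : Subgroup G), c * k * c⁻¹ ∈ F.R := fun k hk => by
      rw [← hP, ← hc, Sylow.coe_subgroup_smul]
      exact ⟨k, hk, rfl⟩
    exact (Commute.conj_iff c).mp (hab _ (hm g hg) _ (hm h hh))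
  have hfree : ∀ (r : (P : Subgroup G)) (S : Sylow 3 G), S ≠ P → r • S = S → r = 1 := by
    intro r S hne hfix
    by_contra hr1
    have hrn : (r : G) ∈ normalizer ((S : Subgroup G) : Set G) := by
      exact (Sylow.smul_eq_iff_mem_normalizer (g := (r : G)) (P := S)).mp hfix
    have hrS : (r : G) ∈ (S : Subgroup G) := by
      have hp : IsPGroup 3 (zpowers (r : G)) :=
        P.isPGroup'.to_le (zpowers_le.mpr r.2)
      exact (inf_le_right : zpowers (r : G) ⊓ S ≤ S)
        (hp.inf_normalizer_sylow S ▸ ⟨mem_zpowers _, hrn⟩)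
    obtain ⟨n, hn⟩ := P.isPGroup'.exists_card_eq
    obtain ⟨q, hq⟩ := exists_prime_orderOf_dvd_card' (G := zpowers (r : G)) 3 (by
      obtain ⟨k, hk⟩ := (P.isPGroup'.to_le (zpowers_le.mpr r.2)).exists_card_eq
      rw [hk]
      refine dvd_pow_self 3 fun h0 => hr1 (Subtype.ext ?_)
      rw [h0, pow_zero, Nat.card_zpowers, orderOf_eq_one_iff] at hk
      exact hk)
    rw [← Subgroup.orderOf_coe] at hq
    have hqP : (q : G) ∈ (P : Subgroup G) := zpowers_le.mpr r.2 q.2
    have hqS : (q : G) ∈ (S : Subgroup G) := zpowers_le.mpr hrS q.2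
    exact hne (Sylow.ext (huniq q hq _ (hcardS S) (fun g hg => habel S g hg _ hqS) _ (hcardS P)
      (fun g hg => habel P g hg _ hqP)))
  have hn : Nat.card (Sylow 3 G) ∣ 208 := by
    have h := P.card_dvd_index
    have h2 := (P : Subgroup G).card_mul_index
    rw [hcardS, F.card_G] at h2
    rwa [show (P : Subgroup G).index = 208 by omega] at h
  have hN : Nat.card (Sylow 3 G) = (normalizer ((P : Subgroup G) : Set G)).index :=
    P.card_eq_index_normalizer
  have hN2 := (normalizer ((P : Subgroup G) : Set G)).card_mul_index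
  have htN : F.t ∈ normalizer ((P : Subgroup G) : Set G) := by
    rw [hP, mem_normalizer_iff]
    intro r
    refine ⟨fun h => F.conj_mem (Or.inl F.toData.txt) h, fun h => ?_⟩
    have := F.conj_mem (Or.inl F.toData.txt) h
    rw [show F.t * (F.t * r * F.t⁻¹) * F.t⁻¹ = (F.t * F.t) * r * (F.t * F.t)⁻¹ by group,
      F.toData.t_sq] at this
    simpa using this
  have h2N : 2 ∣ Nat.card (normalizer ((P : Subgroup G) : Set G)) := by
    rw [← F.t2, ← Subgroup.orderOf_mk F.t htN]
    exact orderOf_dvd_natCard _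
  have hone : Nat.card (Sylow 3 G) ≠ 1 := fun h => by
    rw [h, eq_comm] at hN
    rcases (Subgroup.normalizer_eq_top_iff.mp (Subgroup.index_eq_one.mp hN)).eq_bot_or_eq_top with hb | hb
    · have := hcardS P; rw [hb, card_bot] at this; omega
    · have := hcardS P; rw [hb, card_top, F.card_G] at this; omega
  -- free orbits of size 27
  let o : Sylow 3 G → ↥(P : Subgroup G) → Sylow 3 G := fun S r => r • S
  have hinj : ∀ S, S ≠ P → Function.Injective (o S) := by
    intro S hS r r' h
    have h1 : (r⁻¹ * r') • S = S := by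
      rw [mul_smul]
      exact (congrArg (r⁻¹ • ·) h).symm.trans (inv_smul_smul r S)
    exact inv_mul_eq_one.mp (hfree _ S hS h1)
  have hrP : ∀ r : (P : Subgroup G), r • P = P := fun r =>
    (Sylow.smul_eq_iff_mem_normalizer (g := (r : G)) (P := P)).mpr (le_normalizer r.2)
  have himg : ∀ S, S ≠ P → ∀ r, o S r ≠ P := by
    intro S hS r h
    exact hS (by rw [← inv_smul_smul r S, show r • S = P from h, hrP])
  haveI : Fintype (Sylow 3 G) := Fintype.ofFinite _
  haveI : Fintype (P : Subgroup G) := Fintype.ofFinite _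
  obtain ⟨S1, hS1⟩ : ∃ S : Sylow 3 G, S ≠ P := by
    by_contra hall
    simp only [not_exists, not_not] at hall
    haveI : Unique (Sylow 3 G) := ⟨⟨P⟩, hall⟩
    exact hone (Nat.card_unique)
  let O1 := Finset.univ.image (o S1)
  have hO1 : O1.card = 27 := by
    rw [Finset.card_image_of_injective _ (hinj S1 hS1), Finset.card_univ, ← Nat.card_eq_fintype_card,
      hcardS]
  have hP1 : P ∉ O1 := fun h => by
    obtain ⟨r, -, hr⟩ := Finset.mem_image.mp h; exact himg S1 hS1 r hr
  have hge : 28 ≤ Nat.card (Sylow 3 G) := by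
    rw [Nat.card_eq_fintype_card]
    have := Finset.card_le_univ (insert P O1)
    rw [Finset.card_insert_of_notMem hP1, hO1] at this
    exact this
  have h52 : Nat.card (Sylow 3 G) = 52 := by
    have hk : ∀ k ∈ Nat.divisors 208, 28 ≤ k → k = 52 ∨ k = 104 ∨ k = 208 := by decide +kernel
    rcases hk _ (Nat.mem_divisors.mpr ⟨hn, by norm_num⟩) hge with h | h | h
    · exact h
    · have := card_sylow_modEq_one 3 G
      rw [h] at this
      exact absurd this (by decide)
    · rw [hN] at h
      rw [h, F.card_G] at hN2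
      omega
  obtain ⟨S2, hS2⟩ : ∃ S : Sylow 3 G, S ∉ insert P O1 := by
    by_contra hall
    simp only [not_exists, not_not] at hall
    have h := Finset.eq_univ_of_forall hall
    have := congrArg Finset.card h
    rw [Finset.card_insert_of_notMem hP1, hO1, Finset.card_univ, ← Nat.card_eq_fintype_card, h52] at this
    omega
  rw [Finset.mem_insert, not_or] at hS2
  let O2 := Finset.univ.image (o S2)
  have hO2 : O2.card = 27 := by
    rw [Finset.card_image_of_injective _ (hinj S2 hS2.1), Finset.card_univ, ← Nat.card_eq_fintype_card,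
      hcardS]
  have hdis : Disjoint O1 O2 := by
    rw [Finset.disjoint_left]
    intro S h1 h2
    obtain ⟨r1, -, e1⟩ := Finset.mem_image.mp h1
    obtain ⟨r2, -, e2⟩ := Finset.mem_image.mp h2
    refine hS2.2 (Finset.mem_image.mpr ⟨r2⁻¹ * r1, Finset.mem_univ _, ?_⟩)
    show (r2⁻¹ * r1) • S1 = S2
    rw [mul_smul, show r1 • S1 = r2 • S2 from e1.trans e2.symm, inv_smul_smul]
  have := Finset.card_le_univ (O1 ∪ O2)
  rw [Finset.card_union_of_disjoint hdis, hO1, hO2, ← Nat.card_eq_fintype_card, h52] at this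
  omega

end CfsgLib.Recognition.GLTwoThree
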