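import Cfsg.Agent.Lib.Char.GLTwoThreeFacts

/-!
# More finite facts about `GL(2, 3)` and difference sets modulo 13
-/

set_option autoImplicit false
set_option synthInstance.maxSize 512
set_option synthInstance.maxHeartbeats 100000

namespace CfsgLib.Recognition.GLTwoThree

open CfsgLib.Char.GLTwoThree

theorem three_involutions : ∀ m : M3, m.det ≠ 0 →
    ∃ x : M3, x * x = 1 ∧ ∃ y : M3, y * y = 1 ∧ (y * x * m) * (y * x * m) = 1 := by
  decide +kernel

theorem normalised_three : ∀ m : M3, m * m * m = 1 →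
    (ma * m = ma ∨ ma * m = m * ma ∨ ma * m = m * m * ma) → m = 1 := by
  decide +kernel

theorem three_conj : ∀ m : M3, m * m * m = 1 → m ≠ 1 →
    ∃ g : M3, g.det ≠ 0 ∧ g * m = mu * mu * g := by
  decide +kernel

theorem mv_facts : mv * mv = 1 ∧ mv ≠ 1 ∧ mv ≠ -1 ∧ mv * (mu * mu) = mu ^ 4 * mv := by
  decide +kernel

end CfsgLib.Recognition.GLTwoThree
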