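import Cfsg.Agent.Lib.Recognition.CommutingGraphPSL33.Main
import Cfsg.Agent.Lib.Recognition.GLTwoThree.Coords

/-!
# The simple group of order 5616 with involution centraliser `GL(2, 3)` is `PSL(3, 3)`
-/

set_option autoImplicit false

namespace CfsgLib.Recognition.GLTwoThree

open Subgroup CfsgLib.Recognition.CommutingGraphPSL33

theorem nonempty_mulEquiv_A0_of_flags {H : Type*} [Group H] [Finite H] [IsSimpleGroup H]
    (hcard : Nat.card H = 5616) (x0 : H) (hx : x0 ≠ 1)
    (h54' : ∀ h : H, IsConj h x0 → Nat.card ↥(centralizer ({h} : Set H)) = 54)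
    (e : Fin 104 ≃ {h : H // IsConj h x0})
    (hadj : ∀ i j, (e i).1 * (e j).1 = (e j).1 * (e i).1 ↔ adjF i j) : Nonempty (H ≃* A0) := by
  classical
  let c : H → Equiv.Perm {h : H // IsConj h x0} := fun g =>
    (MulAut.conj g).toEquiv.subtypeEquiv fun h =>
      ⟨fun hh => (isConj_iff.mpr ⟨g, rfl⟩ : IsConj h (g * h * g⁻¹)).symm.trans hh,
        fun hh => (isConj_iff.mpr ⟨g, rfl⟩ : IsConj h (g * h * g⁻¹)).trans hh⟩
  have hc : ∀ g h, (c g h).1 = g * h.1 * g⁻¹ := fun g h => rfl
  let σ : H →* Equiv.Perm (Fin 104) :=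
    { toFun := fun g => (e.trans (c g)).trans e.symm
      map_one' := Equiv.ext fun i => by
        simp only [Equiv.trans_apply, Equiv.Perm.one_apply]
        rw [e.symm_apply_eq]; exact Subtype.ext (by rw [hc]; simp)
      map_mul' := fun g g' => Equiv.ext fun i => by
        simp only [Equiv.trans_apply, Equiv.Perm.mul_apply, Equiv.apply_symm_apply,
          EmbeddingLike.apply_eq_iff_eq]
        exact Subtype.ext (by simp only [hc]; group) }
  have hσ : ∀ g i, (e (σ g i)).1 = g * (e i).1 * g⁻¹ := fun g i => by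
    simp only [σ, MonoidHom.coe_mk, OneHom.coe_mk, Equiv.trans_apply, Equiv.apply_symm_apply, hc]
  have hσA : ∀ g, σ g ∈ AdjAut := fun g i j => by
    rw [← hadj, ← hadj, hσ, hσ]
    constructor <;> intro h
    · have := congrArg (fun t => g⁻¹ * t * g) h
      simpa [mul_assoc] using this
    · have := congrArg (fun t => g * t * g⁻¹) h
      simpa [mul_assoc] using this
  let ψ : H →* IncAut :=
    (toPerm.comp (σ.codRestrict AdjAut hσA)).codRestrict IncAut fun g => toPerm_mem _
  have hinj : Function.Injective ψ := by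
    rw [← MonoidHom.ker_eq_bot_iff]
    refine (IsSimpleGroup.eq_bot_or_eq_top_of_normal ψ.ker inferInstance).resolve_right fun htop => ?_
    set P : Set H := {x | ∃ i, mem (.inl 0) i ∧ x = (e i).1}
    have hconj : ∀ g : H, ∀ x ∈ P, g * x * g⁻¹ ∈ P := by
      rintro g x ⟨i, hi, rfl⟩
      refine ⟨σ g i, ?_, (hσ g i).symm⟩
      have hk : ψ g = 1 := MonoidHom.mem_ker.mp (htop ▸ mem_top g)
      have := congrArg (fun π : IncAut => π.1 (.inl 0)) hk
      change img ⟨σ g, hσA g⟩ (.inl 0) = .inl 0 at this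
      rw [← this]
      exact (mem_img _ _ i).mpr hi
    haveI hnormal : (closure P).Normal := ⟨fun n hn g => by
      induction hn using closure_induction with
      | mem x hx => exact subset_closure (hconj g x hx)
      | one => simp
      | mul a b _ _ iha ihb =>
        have : g * (a * b) * g⁻¹ = g * a * g⁻¹ * (g * b * g⁻¹) := by group
        rw [this]; exact mul_mem iha ihb
      | inv a _ iha =>
        have : g * a⁻¹ * g⁻¹ = (g * a * g⁻¹)⁻¹ := by group
        rw [this]; exact inv_mem iha⟩
    have hcomm : IsMulCommutative (closure P) := Subgroup.isMulCommutative_closure (by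
      rintro x ⟨i, hi, rfl⟩ y ⟨j, hj, rfl⟩
      exact (hadj i j).mpr (mem_adj hi hj))
    have hx0 : (e 0).1 ∈ closure P := subset_closure ⟨0, rfl, rfl⟩
    have hx1 : (e 0).1 ≠ 1 := fun h => by
      have := (e 0).2
      rw [h, isConj_one_right] at this
      exact hx this
    rcases IsSimpleGroup.eq_bot_or_eq_top_of_normal (closure P) hnormal with h0 | h1
    · rw [h0, mem_bot] at hx0; exact hx1 hx0
    · have hC : centralizer ({(e 0).1} : Set H) = ⊤ := eq_top_iff.mpr fun g _ => by
        refine mem_centralizer_singleton_iff.mpr ?_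
        exact congrArg Subtype.val
          (hcomm.is_comm.comm (⟨g, h1 ▸ mem_top g⟩ : closure P) ⟨(e 0).1, hx0⟩)
      have h54 := h54' _ (e 0).2
      rw [hC, card_top, hcard] at h54
      norm_num at h54
  have hA0 : ∀ g, ψ g ∈ A0 := by
    intro g
    rcases IsSimpleGroup.eq_bot_or_eq_top_of_normal (typeHom.comp ψ).ker inferInstance with h0 | h1
    · exfalso
      have := Nat.card_le_card_of_injective _ ((MonoidHom.ker_eq_bot_iff _).mp h0)
      rw [hcard, Nat.card_perm, Nat.card_eq_fintype_card, Fintype.card_bool] at this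
      exact absurd this (by decide)
    · exact MonoidHom.mem_ker.mpr (MonoidHom.mem_ker.mp (h1 ▸ mem_top g : g ∈ (typeHom.comp ψ).ker))
  have hinj' : Function.Injective (ψ.codRestrict A0 hA0) := fun x y h =>
    hinj (congrArg Subtype.val h)
  refine ⟨MulEquiv.ofBijective _ ((Nat.bijective_iff_injective_and_card _).mpr ⟨hinj', ?_⟩)⟩
  have h1 := Nat.card_le_card_of_injective _ hinj'
  have h2 := card_A0_le
  rw [hcard] at h1 ⊢
  omega


theorem nonempty_mulEquiv_SG_of_data {G : Type*} [Group G] [Finite G] [IsSimpleGroup G]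
    (hcard : Nat.card G = 5616) (D : Data G) : Nonempty (G ≃* SG) := by
  obtain ⟨F⟩ := exists_frame D hcard
  obtain ⟨X⟩ := exists_axes F
  obtain ⟨y, hy⟩ := F.exists_y
  obtain ⟨e, he⟩ := X.exists_equiv hy
  obtain ⟨a⟩ := nonempty_mulEquiv_A0_of_flags hcard F.x F.toData.x_ne
    (fun h hh => (card_centralizer_of_isConj hh).trans F.card_cx) e he
  obtain ⟨b⟩ := CfsgLib.Recognition.CommutingGraphPSL33.nonempty_mulEquiv_A0 (Equiv.refl SG)
    (fun _ _ => Iff.rfl) rfl
  exact ⟨a.trans b.symm⟩

end CfsgLib.Recognition.GLTwoThree
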