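import Cfsg.Prelude.Def_Transfer
import Cfsg.Agent.Lib.Char.GLTwoThreeCentralizer
import Cfsg.Agent.Lib.Recognition.GLTwoThree.Facts

/-!
# Groups without index-two image with an involution centraliser `GL(2, 3)`
-/

set_option autoImplicit false

namespace CfsgLib.Recognition.GLTwoThree

open CfsgLib.Char.GLTwoThree CfsgLib.Char
open scoped commutatorElement

/-- The data used for the recognition of `PSL(3, 3)`. -/
structure Data (G : Type*) [Group G] where
  t : G
  x : G
  s : G
  t2 : orderOf t = 2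
  s2 : orderOf s = 2
  s_ne : s ≠ t
  x3 : orderOf x = 3
  tx : t * x = x * t
  ts : t * s = s * t
  sx : s * x * s⁻¹ = x⁻¹
  conj_t : ∀ i : G, orderOf i = 2 → IsConj i t
  card_ct : Nat.card (Subgroup.centralizer ({t} : Set G)) = 48
  card_ctx : ∀ H : Subgroup G, (∀ g ∈ H, g * t = t * g ∧ g * x = x * g) → Nat.card H ∣ 6
  conj_x : ∀ y : G, orderOf y = 3 → y * t = t * y → IsConj y x

set_option maxHeartbeats 4000000 in
theorem main {G : Type*} [Group G] [Finite G] (hO : Cfsg.pResidual 2 G = ⊤) (t : G)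
    (ht : orderOf t = 2)
    (e : Subgroup.centralizer ({t} : Set G) ≃* Matrix.GeneralLinearGroup (Fin 2) (ZMod 3)) :
    IsSimpleGroup G ∧ (Nat.card G = 5616 ∨ Nat.card G = 7920) ∧ Nonempty (Data G) := by
  classical
  cases nonempty_fintype G
  set C := Subgroup.centralizer ({t} : Set G) with hC
  have hmem : ∀ x : G, x ∈ C ↔ x * t = t * x := fun x => Subgroup.mem_centralizer_singleton_iff
  let φ : C → M3 := fun x => ((e x : Matrix.GeneralLinearGroup (Fin 2) (ZMod 3)) : M3)
  have φmul : ∀ x y, φ (x * y) = φ x * φ y := fun x y => by simp [φ]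
  have φone : φ 1 = 1 := by simp [φ]
  have φpow : ∀ x (n : ℕ), φ (x ^ n) = φ x ^ n := fun x n => by simp [φ]
  have φinj : Function.Injective φ := fun x y h => e.injective (Units.ext h)
  have φdet : ∀ x, (φ x).det ≠ 0 := fun x =>
    ((Matrix.isUnit_iff_isUnit_det _).mp (e x).isUnit).ne_zero
  have φsurj : ∀ m : M3, m.det ≠ 0 → ∃ x, φ x = m := fun m hm =>
    ⟨e.symm (Matrix.GeneralLinearGroup.mkOfDetNeZero m hm), by simp [φ]⟩
  let t' : C := ⟨t, (hmem t).mpr rfl⟩
  have ht1 : t ≠ 1 := fun h => by rw [h, orderOf_one] at ht; omega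
  have ht2 : t ^ 2 = 1 := by rw [← ht]; exact pow_orderOf_eq_one t
  have htφ : φ t' = -1 := by
    refine (center _ (φdet _) fun n hn => ?_).resolve_left fun h => ht1 ?_
    · obtain ⟨x, rfl⟩ := φsurj n hn
      rw [← φmul, ← φmul]
      exact congrArg φ (Subtype.ext ((hmem x).mp x.2).symm)
    · exact congrArg Subtype.val (φinj (h.trans φone.symm))
  obtain ⟨da, du, dw, dv⟩ := dets
  obtain ⟨pa, pu, pne, pu2, -⟩ := pows
  obtain ⟨rw2, rw1, rwm, rwa', rvu⟩ := reflections
  obtain ⟨a', ha⟩ := φsurj ma da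
  obtain ⟨u', hu⟩ := φsurj mu du
  obtain ⟨w', hw⟩ := φsurj mw dw
  obtain ⟨v', hv⟩ := φsurj mv dv
  have ha4' : a' ^ 4 = t' := φinj (by rw [φpow, ha, pa, htφ])
  have hu3' : u' ^ 3 = t' := φinj (by rw [φpow, hu, pu, htφ])
  set a : G := (a' : G) with hadef
  set u : G := (u' : G) with hudef
  have ha4 : a ^ 4 = t := congrArg Subtype.val ha4'
  have hu3 : u ^ 3 = t := congrArg Subtype.val hu3'
  have ha8 : a ^ 8 = 1 := by rw [show 8 = 4 * 2 from rfl, pow_mul, ha4, ht2]
  have hu6 : u ^ 6 = 1 := by rw [show 6 = 3 * 2 from rfl, pow_mul, hu3, ht2]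
  have hao : orderOf a = 8 := by
    have := orderOf_eq_prime_pow (x := a) (p := 2) (n := 2) (by norm_num; rw [ha4]; exact ht1)
      (by norm_num; exact ha8)
    simpa using this
  have huo : orderOf u = 6 := by
    have hd := orderOf_dvd_of_pow_eq_one hu6
    have h2 : ¬ orderOf u ∣ 2 := fun h => pu2 (by
      have h' : u' ^ 2 = 1 := Subtype.ext (orderOf_dvd_iff_pow_eq_one.mp h)
      rw [← hu, ← φpow, h', φone])
    have h3 : ¬ orderOf u ∣ 3 := fun h => ht1 (by
      rw [← hu3]; exact orderOf_dvd_iff_pow_eq_one.mp h)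
    have hle := Nat.le_of_dvd (by norm_num) hd
    interval_cases h : orderOf u <;> first | rfl | (exfalso; revert hd h2 h3; norm_num)
  -- elements commuting with a root of `t` lie in `C`
  have hroot : ∀ (g : G) (n : ℕ), g ^ n = t → ∀ x : G, x * g = g * x → x ∈ C := by
    intro g n hg x hx
    rw [hmem, ← hg]
    exact (Commute.pow_right (show Commute x g from hx) n).eq
  -- transfer of counts to matrices
  have count : ∀ (p : G → Prop) (q : M3 → Prop) [DecidablePred q], (∀ x, p x → x ∈ C) →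
      (∀ x : C, p x ↔ q (φ x)) →
      Nat.card {x : G // p x} = Fintype.card {m : M3 // m.det ≠ 0 ∧ q m} := by
    intro p q _ hpC hpq
    rw [← Nat.card_eq_fintype_card]
    refine Nat.card_eq_of_bijective
      (fun x => ⟨φ ⟨x.1, hpC _ x.2⟩, φdet _, (hpq ⟨x.1, hpC _ x.2⟩).mp x.2⟩) ⟨fun x y h => ?_, fun m => ?_⟩
    · have h' := φinj (congrArg Subtype.val h)
      exact Subtype.ext (congrArg Subtype.val h' :)
    · obtain ⟨x, hx⟩ := φsurj m.1 m.2.1
      refine ⟨⟨x, (hpq x).mpr (hx ▸ m.2.2)⟩, Subtype.ext ?_⟩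
      exact hx
  have hcomm : ∀ (g x : C), (x : G) * g = g * x ↔ φ x * φ g = φ g * φ x := fun g x => by
    rw [← φmul, ← φmul, φinj.eq_iff, Subtype.ext_iff]
    rfl
  have hsemi : ∀ (g g' x : C), (x : G) * g = g' * x ↔ φ x * φ g = φ g' * φ x := fun g g' x => by
    rw [← φmul, ← φmul, φinj.eq_iff, Subtype.ext_iff]
    rfl
  have hCt : Nat.card C = 48 := by
    rw [← card_all, ← Nat.card_eq_fintype_card]
    refine Nat.card_eq_of_bijective (fun x => ⟨φ x, φdet x⟩)
      ⟨fun x y h => φinj (congrArg Subtype.val h), fun m => ?_⟩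
    obtain ⟨x, hx⟩ := φsurj m.1 m.2
    exact ⟨x, Subtype.ext hx⟩
  obtain ⟨ci, ca, cu, cq⟩ := card_cent
  have hcent : ∀ g : G, Nat.card (Subgroup.centralizer ({g} : Set G)) =
      Nat.card {x : G // x * g = g * x} := fun g =>
    Nat.card_congr (Equiv.subtypeEquivRight fun x => Subgroup.mem_centralizer_singleton_iff)
  have hCi : Nat.card (Subgroup.centralizer ({a ^ 2} : Set G)) = 8 := by
    rw [hcent, ← ci]
    exact count _ (fun m => m * ma ^ 2 = ma ^ 2 * m)
      (fun x hx => hroot (a ^ 2) 2 (by rw [← pow_mul]; exact ha4) x hx)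
      (fun x => by rw [← ha, ← φpow, ← hcomm]; rfl)
  have hCa : Nat.card (Subgroup.centralizer ({a} : Set G)) = 8 := by
    rw [hcent, ← ca]
    exact count _ (fun m => m * ma = ma * m) (fun x hx => hroot a 4 ha4 x hx)
      (fun x => by rw [← ha, ← hcomm])
  have hCu : Nat.card (Subgroup.centralizer ({u} : Set G)) = 6 := by
    rw [hcent, ← cu]
    exact count _ (fun m => m * mu = mu * m) (fun x hx => hroot u 3 hu3 x hx)
      (fun x => by rw [← hu, ← hcomm])
  have hwa : (w' : G) * a = a ^ 3 * w' := by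
    have h : w' * a' = a' ^ 3 * w' := φinj (by rw [φmul, φmul, φpow, hw, ha, rwa'])
    exact congrArg Subtype.val h
  have ha3 : IsConj (a ^ 3) a := (isConj_iff.mpr ⟨w', by rw [hwa, mul_inv_cancel_right]⟩ :
    IsConj a (a ^ 3)).symm
  have ha6 : IsConj (a ^ 6) (a ^ 2) := by
    have := ha3.pow 2
    rwa [← pow_mul] at this
  have hu5 : IsConj (u ^ 5) u := (isConj_iff.mpr ⟨v', by
    have h : v' * u' = u' ^ 5 * v' := φinj (by rw [φmul, φmul, φpow, hv, hu, rvu])
    rw [show (v' : G) * u = u ^ 5 * v' from congrArg Subtype.val h, mul_inv_cancel_right]⟩ :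
    IsConj u (u ^ 5)).symm
  have hna : ¬ IsConj a⁻¹ a := by
    intro h
    obtain ⟨c, hc⟩ := isConj_iff.mp h
    have hi : a⁻¹ = a ^ 7 := inv_eq_of_mul_eq_one_right (by rw [← pow_succ']; exact ha8)
    rw [hi] at hc
    have hc' : c * a ^ 7 = a * c := by
      calc c * a ^ 7 = c * a ^ 7 * c⁻¹ * c := by group
        _ = a * c := by rw [hc]
    have hti : a ^ (7 * 4) = t := by
      rw [show 7 * 4 = 8 * 3 + 4 from rfl, pow_add, pow_mul, ha8, one_pow, one_mul, ha4]
    have hcC : c ∈ C := by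
      rw [hmem]
      have h4 : c * (a ^ 7) ^ 4 = a ^ 4 * c :=
        (SemiconjBy.pow_right (show SemiconjBy c (a ^ 7) a from hc') 4).eq
      rwa [← pow_mul, hti, ha4] at h4
    refine not_real (φ ⟨c, hcC⟩) (φdet _) ?_
    rw [← ha, ← φpow, ← φmul, ← φmul]
    exact congrArg φ (Subtype.ext hc')
  -- the normaliser of `⟨a⟩` in `C` is a Sylow 2-subgroup
  have hqC : ∀ x : G, (x * a = a * x ∨ x * a = a ^ 3 * x) → x ∈ C := by
    rintro x (hx | hx)
    · exact hroot a 4 ha4 x hx
    · rw [hmem]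
      have h4 : x * a ^ 4 = (a ^ 3) ^ 4 * x :=
        (SemiconjBy.pow_right (show SemiconjBy x a (a ^ 3) from hx) 4).eq
      rw [← pow_mul, show 3 * 4 = 8 + 4 from rfl, pow_add, ha8, one_mul, ha4] at h4
      exact h4
  let Q : Subgroup G :=
    { carrier := {x | x * a = a * x ∨ x * a = a ^ 3 * x}
      one_mem' := Or.inl (by rw [one_mul, mul_one])
      mul_mem' := by
        intro x y hx hy
        have h9 : (a ^ 3) ^ 3 = a := by
          rw [← pow_mul, show 3 * 3 = 8 + 1 from rfl, pow_add, ha8, one_mul, pow_one]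
        simp only [Set.mem_setOf_eq] at hx hy ⊢
        rcases hx with hx | hx <;> rcases hy with hy | hy
        · exact Or.inl (SemiconjBy.mul_left (show SemiconjBy x a a from hx) hy).eq
        · exact Or.inr (SemiconjBy.mul_left
            (SemiconjBy.pow_right (show SemiconjBy x a a from hx) 3) hy).eq
        · exact Or.inr (SemiconjBy.mul_left (show SemiconjBy x a (a ^ 3) from hx) hy).eq
        · have h := (SemiconjBy.mul_left
            (SemiconjBy.pow_right (show SemiconjBy x a (a ^ 3) from hx) 3) hy).eq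
          rw [h9] at h
          exact Or.inl h
      inv_mem' := by
        intro x hx
        have h9 : (a ^ 3) ^ 3 = a := by
          rw [← pow_mul, show 3 * 3 = 8 + 1 from rfl, pow_add, ha8, one_mul, pow_one]
        simp only [Set.mem_setOf_eq] at hx ⊢
        rcases hx with hx | hx
        · exact Or.inl (SemiconjBy.inv_symm_left (show SemiconjBy x a a from hx)).eq
        · right
          have h3 : x * a ^ 3 = a * x := by
            have h := (SemiconjBy.pow_right (show SemiconjBy x a (a ^ 3) from hx) 3).eq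
            rwa [h9] at h
          exact (SemiconjBy.inv_symm_left (show SemiconjBy x (a ^ 3) a from h3)).eq }
  have hQ16 : Nat.card Q = 16 := by
    rw [← cq]
    exact count (fun x => x * a = a * x ∨ x * a = a ^ 3 * x)
      (fun m => m * ma = ma * m ∨ m * ma = ma ^ 3 * m) hqC (fun x => by
        rw [← ha, ← φpow, ← hsemi, ← hsemi]; rfl)
  have hQC : Q ≤ C := fun x hx => hqC x hx
  have haQ : a ∈ Q := Or.inl rfl
  have hwQ : (w' : G) ∈ Q := Or.inr hwa
  have hQ2 : IsPGroup 2 Q := IsPGroup.of_card (n := 4) (by rw [hQ16]; norm_num)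
  obtain ⟨P, hP⟩ := hQ2.exists_le_sylow
  have htQ : t ∈ Q := ha4 ▸ pow_mem haQ 4
  have hPC : (P : Subgroup G) ≤ C := by
    intro x hx
    have : Nontrivial (P : Subgroup G) :=
      ⟨⟨⟨t, hP htQ⟩, 1, fun h => ht1 (congrArg Subtype.val h)⟩⟩
    obtain ⟨z, hz, hz1⟩ := (Subgroup.nontrivial_iff_exists_ne_one _).mp
      P.isPGroup'.center_nontrivial
    have hzc := Subgroup.mem_center_iff.mp hz
    have hzC : (z : G) ∈ C := (hmem _).mpr (congrArg Subtype.val (hzc ⟨t, hP htQ⟩)).symm
    have hc : ∀ y ∈ Q, (z : G) * y = y * z := fun y hy =>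
      (congrArg Subtype.val (hzc ⟨y, hP hy⟩)).symm
    have hzt : (⟨z, hzC⟩ : C) = t' := by
      refine φinj ?_
      rw [htφ]
      refine (fix_two _ (φdet _) ?_ ?_).resolve_left fun h => hz1 ?_
      · rw [← ha, ← hcomm]; exact hc a haQ
      · rw [← hw, ← hcomm]; exact hc w' hwQ
      · exact Subtype.ext (congrArg Subtype.val (φinj (h.trans φone.symm)) : (z : G) = 1)
    rw [hmem, show t = (z : G) from (congrArg Subtype.val hzt).symm]
    exact congrArg Subtype.val (hzc ⟨x, hx⟩)
  have hP16 : Nat.card (P : Subgroup G) = 16 := by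
    obtain ⟨n, hn⟩ := P.isPGroup'.exists_card_eq
    have h1 : 2 ^ n ∣ 48 := hn ▸ hCt ▸ Subgroup.card_dvd_of_le hPC
    have h2 : 16 ∣ 2 ^ n := hn ▸ hQ16 ▸ Subgroup.card_dvd_of_le hP
    have h3 : n ≤ 4 := by
      by_contra h
      have := (pow_dvd_pow 2 (show 5 ≤ n by omega)).trans h1
      norm_num at this
    have h4 := Nat.le_of_dvd (by positivity) h2
    have : (2 : ℕ) ^ n ≤ 2 ^ 4 := Nat.pow_le_pow_right (by norm_num) h3
    omega
  have hodd : ∃ k, Nat.card G = 16 * k ∧ Odd k := by
    refine ⟨(P : Subgroup G).index, ?_, Nat.not_even_iff_odd.mp fun h =>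
      P.not_dvd_index (even_iff_two_dvd.mp h)⟩
    rw [← (P : Subgroup G).card_mul_index, hP16]
  -- all involutions of `C` are conjugate to `t`
  have hwt : IsConj (w' : G) t := by
    have hel : ∀ y ∈ Subgroup.zpowers a, y ≠ 1 → y ^ 2 = 1 → y = t := by
      intro y hy hy1 hy2
      obtain ⟨k, rfl⟩ := (mem_powers_iff_mem_zpowers).2 hy
      simp only at hy1 hy2 ⊢
      rw [← pow_mul] at hy2
      have h4 := orderOf_dvd_of_pow_eq_one hy2
      rw [hao] at h4
      rw [← pow_mod_orderOf, hao] at hy1 ⊢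
      rcases (show k % 8 = 0 ∨ k % 8 = 4 by omega) with h | h
      · exact absurd (by rw [h, pow_zero]) hy1
      · rw [h, ha4]
    have hAP : Subgroup.zpowers a ≤ (P : Subgroup G) := Subgroup.zpowers_le.mpr (hP haQ)
    have hQi : (Subgroup.zpowers a).relIndex (P : Subgroup G) = 2 := by
      have h := ((Subgroup.zpowers a).subgroupOf (P : Subgroup G)).card_mul_index
      rw [Nat.card_congr (Subgroup.subgroupOfEquivOfLe hAP).toEquiv, Nat.card_zpowers, hao,
        hP16] at h
      show ((Subgroup.zpowers a).subgroupOf (P : Subgroup G)).index = 2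
      omega
    have hw2 : (w' : G) ^ 2 = 1 := congrArg Subtype.val
      (φinj (by rw [φpow, hw, sq, rw2, φone]) : w' ^ 2 = 1)
    have hwne : (w' : G) ≠ 1 := fun h => rw1 (by rw [← hw, show w' = 1 from Subtype.ext h, φone])
    rcases CfsgLib.Fusion.ThompsonTransfer.thompson_transfer P (Subgroup.zpowers a) hAP hQi w'
      hw2 (hP hwQ) (fun h => rwm (by
        rw [← hw, show w' = t' from Subtype.ext (hel _ h hwne hw2), htφ])) with
      ⟨M, hMn, hMi, -⟩ | ⟨g, hg⟩
    · exfalso
      have hle : Cfsg.pResidual 2 G ≤ M := by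
        refine (Subgroup.closure_le _).mpr fun g hg => ?_
        have hodd' : Odd (orderOf g) := (Nat.coprime_two_right).mp hg
        obtain ⟨m, hm⟩ := hodd'
        have h2 : g ^ (2 * (m + 1)) ∈ M := by
          rw [pow_mul]
          exact pow_mem (Subgroup.sq_mem_of_index_two hMi g) _
        rwa [show 2 * (m + 1) = orderOf g + 1 by omega, pow_succ, pow_orderOf_eq_one,
          one_mul] at h2
      rw [hO, top_le_iff] at hle
      rw [hle, Subgroup.index_top] at hMi
      omega
    · refine isConj_iff.mpr ⟨g, hel _ hg (fun h => hwne ?_) ?_⟩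
      · calc (w' : G) = g⁻¹ * (g * w' * g⁻¹) * g := by group
          _ = 1 := by rw [h]; group
      · rw [conj_pow, hw2]; group
  have hconj : ∀ x : C, φ x ≠ 1 ∧ φ x ^ 2 = 1 → IsConj (x : G) t := by
    rintro x ⟨h1, h2⟩
    by_cases hm : φ x = -1
    · rw [show x = t' from φinj (hm.trans htφ.symm)]
    obtain ⟨n, hn, hnx⟩ := involution_conj _ h2 h1 hm
    obtain ⟨c, rfl⟩ := φsurj n hn
    rw [← hw, ← φmul, ← φmul] at hnx
    have h := congrArg Subtype.val (φinj hnx)
    refine (isConj_iff.mpr ⟨(c : G), ?_⟩ : IsConj (x : G) w').trans hwt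
    rw [show (c : G) * x = w' * c from h, mul_inv_cancel_right]
  have hinv : ∀ x : G, IsConj x t → x ≠ 1 ∧ x ^ 2 = 1 := by
    intro x hx
    obtain ⟨c, hc⟩ := isConj_iff.mp hx
    have hx' : x = c⁻¹ * t * c := by rw [← hc]; group
    refine ⟨fun h => ht1 ?_, ?_⟩
    · rw [h, mul_one, mul_inv_cancel] at hc
      exact hc.symm
    · rw [hx', show (c⁻¹ * t * c) ^ 2 = c⁻¹ * t ^ 2 * c by rw [sq, sq]; group, ht2]
      group
  have hpairs : ∀ (g' : C) (n : ℕ), (g' : G) ^ n = t →
      Nat.card {x : G // IsConj x t ∧ IsConj (x⁻¹ * g') t} =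
        Fintype.card {m : M3 // m.det ≠ 0 ∧ (m ≠ 1 ∧ m ^ 2 = 1) ∧
          (m * φ g' ≠ 1 ∧ (m * φ g') ^ 2 = 1)} := by
    intro g' n hn
    refine count _ (fun m => (m ≠ 1 ∧ m ^ 2 = 1) ∧ (m * φ g' ≠ 1 ∧ (m * φ g') ^ 2 = 1))
      (fun x hx => ?_) (fun x => ?_)
    · obtain ⟨-, h1⟩ := hinv x hx.1
      obtain ⟨-, h2⟩ := hinv _ hx.2
      have hxi : x⁻¹ = x := inv_eq_of_mul_eq_one_right (by rw [← sq, h1])
      rw [hxi, sq] at h2
      have hxg : SemiconjBy x (g' : G) (g' : G)⁻¹ := by
        show x * g' = (g' : G)⁻¹ * x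
        calc x * g' = (x * g' * (x * g')) * ((g' : G)⁻¹ * x⁻¹) := by group
          _ = (g' : G)⁻¹ * x := by rw [h2, one_mul, hxi]
      have h := (hxg.pow_right n).eq
      rw [inv_pow, hn, show t⁻¹ = t from inv_eq_of_mul_eq_one_right (by rw [← sq, ht2])] at h
      exact (hmem x).mpr h
    · have hiff : ∀ y : C, IsConj (y : G) t ↔ φ y ≠ 1 ∧ φ y ^ 2 = 1 := fun y => by
        refine ⟨fun h => ?_, hconj y⟩
        obtain ⟨h1, h2⟩ := hinv _ h
        refine ⟨fun h' => h1 ?_, ?_⟩
        · exact congrArg Subtype.val (φinj (h'.trans φone.symm))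
        · rw [← φpow, show y ^ 2 = 1 from Subtype.ext h2, φone]
      constructor
      · rintro ⟨h1, h2⟩
        have hxi : x⁻¹ = x := inv_eq_of_mul_eq_one_right
          (Subtype.ext (by rw [← sq]; exact (hinv _ h1).2) : x * x = 1)
        refine ⟨(hiff x).mp h1, ?_⟩
        rw [← φmul]
        refine (hiff _).mp ?_
        rw [← hxi]
        exact h2
      · rintro ⟨h1, h2⟩
        have hxi : x⁻¹ = x := inv_eq_of_mul_eq_one_right
          (φinj (by rw [φmul, ← sq, h1.2, φone]))
        refine ⟨(hiff x).mpr h1, ?_⟩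
        rw [← φmul] at h2
        have h := (hiff _).mpr h2
        rw [← hxi] at h
        exact h
  have hpa : Nat.card {x : G // IsConj x t ∧ IsConj (x⁻¹ * a) t} = 0 := by
    rw [hpairs a' 4 ha4, ← card_pairs.1]
    simp only [ha]
  have hpu : Nat.card {x : G // IsConj x t ∧ IsConj (x⁻¹ * u) t} = 6 := by
    rw [hpairs u' 3 hu3, ← card_pairs.2]
    simp only [hu]
  -- involutions of `G`
  have hinvol : ∀ i : G, orderOf i = 2 → IsConj i t := by
    intro i hi
    haveI : Fact (Nat.Prime 2) := ⟨Nat.prime_two⟩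
    have hip : IsPGroup 2 (Subgroup.zpowers i) :=
      IsPGroup.of_card (n := 1) (by rw [Nat.card_zpowers, hi, pow_one])
    obtain ⟨S, hS⟩ := hip.exists_le_sylow
    obtain ⟨g, hg⟩ := MulAction.exists_smul_eq G S P
    have hgi : g * i * g⁻¹ ∈ (P : Subgroup G) := by
      rw [← hg, Sylow.coe_subgroup_smul]
      exact ⟨i, hS (Subgroup.mem_zpowers i), rfl⟩
    have hne : g * i * g⁻¹ ≠ 1 := fun h => by
      rw [conj_eq_one_iff] at h
      rw [h, orderOf_one] at hi
      omega
    refine (isConj_iff.mpr ⟨g, rfl⟩ : IsConj i (g * i * g⁻¹)).trans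
      (hconj ⟨_, hPC hgi⟩ ⟨fun h => hne (congrArg Subtype.val (φinj (h.trans φone.symm))), ?_⟩)
    rw [← φpow, ← φone]
    refine congrArg φ (Subtype.ext ?_)
    show (g * i * g⁻¹) ^ 2 = 1
    rw [conj_pow, ← hi, pow_orderOf_eq_one]
    group
  -- a normal subgroup through `t` is everything
  have hgen : ∀ N : Subgroup G, N.Normal → t ∈ N → N = ⊤ := by
    intro N hN htN
    have hcl : ∀ x y : G, IsConj x y → y ∈ N → x ∈ N := by
      intro x y hxy hy
      obtain ⟨c, hc⟩ := isConj_iff.mp hxy.symm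
      rw [← hc]
      exact hN.conj_mem _ hy _
    have hone : ∀ z : C, φ z * φ z = 1 → (z : G) ∈ N := by
      intro z hz
      by_cases h1 : φ z = 1
      · rw [show z = 1 from φinj (h1.trans φone.symm)]
        exact one_mem _
      · exact hcl _ _ (hconj z ⟨h1, by rw [sq, hz]⟩) htN
    have hCN : C ≤ N := by
      intro y hy
      obtain ⟨mx, hmx, my, hmy, hxy⟩ := three_involutions (φ ⟨y, hy⟩) (φdet _)
      have hd : ∀ m : M3, m * m = 1 → m.det ≠ 0 := fun m hm h0 => by
        have := congrArg Matrix.det hm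
        rw [Matrix.det_mul, h0, mul_zero, Matrix.det_one] at this
        exact zero_ne_one this
      obtain ⟨x', hx'⟩ := φsurj mx (hd _ hmx)
      obtain ⟨y', hy'⟩ := φsurj my (hd _ hmy)
      rw [← hx', ← hy', ← φmul, ← φmul] at hxy
      have h1 := hone _ (hx' ▸ hmx)
      have h2 := hone _ (hy' ▸ hmy)
      have h3 := hone (y' * x' * ⟨y, hy⟩) hxy
      simp only [Subgroup.coe_mul] at h3
      have h4 := mul_mem (inv_mem (mul_mem h2 h1)) h3
      rwa [inv_mul_cancel_left] at h4
    refine eq_top_iff.mpr fun g _ => ?_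
    have hPN : (P : Subgroup G) ≤ N := hPC.trans hCN
    haveI := hN
    have hf := Sylow.normalizer_sup_eq_top' P hPN
    have hnle : Subgroup.normalizer ((P : Subgroup G) : Set G) ≤ N := by
      intro x hx
      refine hCN ((hmem x).mpr ?_)
      have hxt : x * t * x⁻¹ ∈ (P : Subgroup G) := (Subgroup.mem_normalizer_iff.mp hx t).mp (hP htQ)
      have hzc : ∀ y ∈ Q, Commute (x * t * x⁻¹) y := fun y hy => by
        have hy' : x⁻¹ * y * x ∈ (P : Subgroup G) :=
          (Subgroup.mem_normalizer_iff.mp hx _).mpr (by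
            rw [show x * (x⁻¹ * y * x) * x⁻¹ = y by group]; exact hP hy)
        have hc' : Commute t (x⁻¹ * y * x) := ((hmem _).mp (hPC hy')).symm
        have h5 := (Commute.conj_iff x).mpr hc'
        rwa [show x * (x⁻¹ * y * x) * x⁻¹ = y by group] at h5
      have hzt : (⟨x * t * x⁻¹, hPC hxt⟩ : C) = t' := by
        refine φinj ?_
        rw [htφ]
        refine (fix_two _ (φdet _) ?_ ?_).resolve_left fun h => ht1 ?_
        · rw [← ha, ← hcomm]; exact (hzc a haQ).eq
        · rw [← hw, ← hcomm]; exact (hzc w' hwQ).eq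
        · exact conj_eq_one_iff.mp (congrArg Subtype.val (φinj (h.trans φone.symm)))
      exact (mul_inv_eq_iff_eq_mul.mp (congrArg Subtype.val hzt)).symm ▸ rfl
    have := hf.symm.le (Subgroup.mem_top g)
    exact (sup_le hnle le_rfl) this
  have hperf : commutator G = ⊤ := by
    refine hgen _ inferInstance ?_
    have h2 : a ^ 2 ∈ commutator G := by
      have h := Subgroup.commutator_mem_commutator (H₁ := ⊤) (H₂ := ⊤) (Subgroup.mem_top (w' : G))
        (Subgroup.mem_top a)
      rw [commutatorElement_def] at h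
      have : (w' : G) * a * (w' : G)⁻¹ * a⁻¹ = a ^ 2 := by rw [hwa]; group
      rw [this] at h
      exact h
    rw [← ha4, show 4 = 2 * 2 from rfl, pow_mul]
    exact pow_mem h2 2
  have hsimple : IsSimpleGroup G := by
    haveI : Nontrivial G := ⟨⟨t, 1, ht1⟩⟩
    refine ⟨fun N hN => ?_⟩
    by_cases h2 : 2 ∣ Nat.card N
    · right
      haveI : Fact (Nat.Prime 2) := ⟨Nat.prime_two⟩
      obtain ⟨⟨i, hiN⟩, hi⟩ := exists_prime_orderOf_dvd_card' 2 h2
      obtain ⟨c, hc⟩ := isConj_iff.mp (hinvol i (by rwa [Subgroup.orderOf_mk] at hi))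
      exact hgen N hN (hc ▸ hN.conj_mem i hiN c)
    left
    have hfix : ∀ n ∈ N, n * t = t * n → n = 1 := by
      intro n hn hnt
      have hC3 : Nat.card ↥(N ⊓ C) ∣ 3 := by
        refine Nat.Coprime.dvd_of_dvd_mul_left ?_
          (show Nat.card ↥(N ⊓ C) ∣ 16 * 3 from
          (Subgroup.card_dvd_of_le (inf_le_right : N ⊓ C ≤ C)).trans (by rw [hCt]))
        refine Nat.Coprime.pow_right 4 (((Nat.prime_two).coprime_iff_not_dvd.mpr fun h => h2
          (h.trans (Subgroup.card_dvd_of_le inf_le_left))).symm)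
      let n' : ↥(N ⊓ C) := ⟨n, hn, (hmem n).mpr hnt⟩
      let k : ↥(N ⊓ C) := ⟨a * n * a⁻¹, hN.conj_mem n hn a,
        (mul_mem (mul_mem a'.2 n'.2.2) (inv_mem a'.2) : a * n * a⁻¹ ∈ C)⟩
      let m : C := ⟨n, n'.2.2⟩
      have h3 : ∀ v : ↥(N ⊓ C), v ^ 3 = 1 := fun v =>
        orderOf_dvd_iff_pow_eq_one.mp ((orderOf_dvd_natCard v).trans hC3)
      have hm3 : φ m * φ m * φ m = 1 := by
        rw [← φmul, ← φmul, ← φone]
        refine congrArg φ (Subtype.ext ?_)
        show n * n * n = 1
        have h := congrArg Subtype.val (h3 n')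
        simpa [pow_succ, n'] using h
      by_contra hn1
      refine hn1 ?_
      have hk : k ∈ Subgroup.zpowers n' := by
        have ho : orderOf n' = Nat.card ↥(N ⊓ C) := by
          have h5 : n' ≠ 1 := fun h => hn1 (congrArg Subtype.val h)
          rcases (Nat.dvd_prime Nat.prime_three).mp hC3 with h | h
          · exact absurd (by
              have := orderOf_dvd_natCard n'
              rw [h, Nat.dvd_one] at this
              exact orderOf_eq_one_iff.mp this) h5
          · rw [h]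
            haveI : Fact (Nat.Prime 3) := ⟨Nat.prime_three⟩
            exact orderOf_eq_prime (h3 n') h5
        rw [Subgroup.eq_top_of_card_eq (Subgroup.zpowers n') (by rw [Nat.card_zpowers, ho])]
        exact Subgroup.mem_top _
      obtain ⟨j, hj⟩ := mem_powers_iff_mem_zpowers.mpr hk
      simp only at hj
      rw [← pow_mod_orderOf] at hj
      have ho3 : orderOf n' ∣ 3 := (orderOf_dvd_natCard n').trans hC3
      have hjlt : j % orderOf n' < 3 :=
        lt_of_lt_of_le (Nat.mod_lt _ (orderOf_pos n')) (Nat.le_of_dvd (by norm_num) ho3)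
      have hk' : φ a' * φ m = φ m ^ (j % orderOf n') * φ a' := by
        rw [← φpow, ← φmul, ← φmul]
        refine congrArg φ (Subtype.ext ?_)
        have h := congrArg Subtype.val hj
        simp only [n', k, SubmonoidClass.coe_pow] at h
        show a * n = ((m : C) ^ (j % orderOf n') : C).1 * a
        rw [SubmonoidClass.coe_pow]
        show a * n = n ^ (j % orderOf n') * a
        rw [h, inv_mul_cancel_right]
      have hm1 : φ m = 1 := by
        refine normalised_three _ hm3 ?_
        rw [← ha]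
        interval_cases (j % orderOf n')
        · left; simpa using hk'
        · right; left; simpa using hk'
        · right; right; simpa [sq] using hk'
      exact congrArg Subtype.val (φinj (hm1.trans φone.symm) : m = 1)
    -- a fixed-point-free involution inverts
    have hinvert : ∀ i : G, IsConj i t → ∀ n ∈ N, i * n * i⁻¹ = n⁻¹ := by
      intro i hit n hn
      obtain ⟨c, hc⟩ := isConj_iff.mp hit
      obtain ⟨hi1, hi2⟩ := hinv i hit
      let f : N →* N := (MulAut.conjNormal i).toMonoidHom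
      have hff : MonoidHom.FixedPointFree f := by
        intro v hv
        have hv' : i * v * i⁻¹ = (v : G) := by
          have := congrArg Subtype.val hv
          simpa [f, MulAut.conjNormal_apply] using this
        have hh := hfix (c * v * c⁻¹) (hN.conj_mem _ v.2 c) (by
          rw [← hc]
          calc c * v * c⁻¹ * (c * i * c⁻¹) = c * (v * i) * c⁻¹ := by group
            _ = c * (i * v) * c⁻¹ := by rw [← mul_inv_eq_iff_eq_mul.mp hv']
            _ = c * i * c⁻¹ * (c * v * c⁻¹) := by group)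
        exact Subtype.ext (conj_eq_one_iff.mp hh)
      have hinvo : Function.Involutive f := fun v => by
        refine Subtype.ext ?_
        simp [f, MulAut.conjNormal_apply]
        calc i * (i * v * i⁻¹) * i⁻¹ = i ^ 2 * v * (i ^ 2)⁻¹ := by rw [sq]; group
          _ = v := by rw [hi2]; group
      have := congrArg Subtype.val (congrFun (hff.coe_eq_inv_of_involutive hinvo) ⟨n, hn⟩)
      simpa [f, MulAut.conjNormal_apply] using this
    refine Subgroup.eq_bot_iff_forall _ |>.mpr fun n hn => hfix n hn ?_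
    have h1 := hinvert t (IsConj.refl t) n hn
    have h2' := hinvert w' hwt n hn
    have hwt' : IsConj ((w' * t' : C) : G) t := by
      refine hconj _ ⟨?_, ?_⟩
      · rw [φmul, hw, htφ]; decide +kernel
      · rw [φmul, hw, htφ]; decide +kernel
    have h3 := hinvert _ hwt' n hn
    simp only [Subgroup.coe_mul] at h3
    have h4 : n⁻¹ = n := by
      calc n⁻¹ = (w' : G) * t * n * ((w' : G) * t)⁻¹ := h3.symm
        _ = (w' : G) * (t * n * t⁻¹) * (w' : G)⁻¹ := by group
        _ = ((w' : G) * n * (w' : G)⁻¹)⁻¹ := by rw [h1]; group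
        _ = n := by rw [h2', inv_inv]
    rw [h4] at h1
    exact (mul_inv_eq_iff_eq_mul.mp h1).symm
  refine ⟨hsimple, card_eq_of_data t a u ha4 hao hu3 huo hCt hCi hCa hCu ha3 ha6 hu5 hna hpa hpu
    hodd hperf, ?_⟩
  obtain ⟨hv1, hv2, hv3, hvx⟩ := mv_facts
  have hvv : v' ^ 2 = 1 := φinj (by rw [φpow, hv, sq, hv1, φone])
  have hv1' : v' ≠ 1 := fun h => hv2 (by rw [← hv, h, φone])
  have hx3 : (u ^ 2) ^ 3 = 1 := by rw [← pow_mul]; exact hu6
  have hx1 : u ^ 2 ≠ 1 := fun h => pu2 (by
    have h' : u' ^ 2 = 1 := Subtype.ext h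
    rw [← hu, ← φpow, h', φone])
  haveI : Fact (Nat.Prime 2) := ⟨Nat.prime_two⟩
  haveI : Fact (Nat.Prime 3) := ⟨Nat.prime_three⟩
  refine ⟨{
    t := t
    x := u ^ 2
    s := v'
    t2 := ht
    s2 := orderOf_eq_prime (congrArg Subtype.val hvv) fun h => hv1' (Subtype.ext h)
    s_ne := fun h => hv3 (by rw [← hv, show v' = t' from Subtype.ext h, htφ])
    x3 := orderOf_eq_prime hx3 hx1
    tx := ((hmem _).mp (pow_mem u'.2 2)).symm
    ts := ((hmem _).mp v'.2).symm
    sx := ?_
    conj_t := hinvol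
    card_ct := hCt
    card_ctx := ?_
    conj_x := ?_ }⟩
  · have h : v' * u' ^ 2 = u' ^ 4 * v' := φinj (by
      rw [φmul, φmul, φpow, φpow, hv, hu, sq, hvx])
    rw [mul_inv_eq_iff_eq_mul, show (v' : G) * u ^ 2 = u ^ 4 * v' from congrArg Subtype.val h]
    congr 1
    refine (eq_inv_of_mul_eq_one_left ?_)
    rw [← pow_add]
    exact hu6
  · intro H hH
    rw [← hCu]
    refine Subgroup.card_dvd_of_le fun g hg => Subgroup.mem_centralizer_singleton_iff.mpr ?_
    obtain ⟨h1, h2⟩ := hH g hg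
    have hu' : u = t * (u ^ 2)⁻¹ := eq_mul_inv_of_mul_eq (by rw [← hu3]; group)
    rw [hu']
    exact (Commute.mul_right (h1 : Commute g t) (Commute.inv_right (h2 : Commute g (u ^ 2)))).eq
  · intro y hy hyt
    let y' : C := ⟨y, (hmem y).mpr hyt⟩
    have hy3 : φ y' * φ y' * φ y' = 1 := by
      rw [← φmul, ← φmul, ← φone]
      refine congrArg φ (Subtype.ext ?_)
      show y * y * y = 1
      rw [show y * y * y = y ^ 3 by rw [pow_succ, pow_two], ← hy, pow_orderOf_eq_one]
    have hy1 : φ y' ≠ 1 := fun h => by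
      rw [show y = 1 from congrArg Subtype.val (φinj (h.trans φone.symm) : y' = 1), orderOf_one] at hy
      omega
    obtain ⟨g, hg, hgy⟩ := three_conj _ hy3 hy1
    obtain ⟨c, hc⟩ := φsurj g hg
    have h : c * y' = u' ^ 2 * c := φinj (by rw [φmul, φmul, φpow, hc, hu, sq, hgy])
    exact isConj_iff.mpr ⟨c, by
      rw [show (c : G) * y = u ^ 2 * c from congrArg Subtype.val h, mul_inv_cancel_right]⟩

end CfsgLib.Recognition.GLTwoThree
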