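import Cfsg.Agent.Lib.Recognition.GLTwoThree.Axis
import Cfsg.Agent.Lib.Recognition.GLTwoThree.Design
import Cfsg.Agent.Lib.Frobenius.Divisibility

/-!
# The doubled flags inside a simple group of order 5616
-/

set_option autoImplicit false

namespace CfsgLib.Recognition.GLTwoThree

open Subgroup CfsgLib.Recognition.CommutingGraphPSL33

variable {G : Type*} [Group G] [Finite G]

/-- Both kinds of axes. -/
structure Axes (F : Frame G) where
  α : Axis F
  β : Axis F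
  αv : α.v = F.s
  βv : β.v = F.s * F.t

theorem exists_axes (F : Frame G) : Nonempty (Axes F) := by
  obtain ⟨α, hα⟩ := exists_axis F F.s2 F.sx F.ts
  obtain ⟨β, hβ⟩ := exists_axis F F.toData.st_order F.toData.stxst (by rw [← mul_assoc, F.ts])
  exact ⟨⟨α, β, hα, hβ⟩⟩

variable {F : Frame G} (X : Axes F)
include X

theorem Axes.sbs : F.s * X.β.a * F.s⁻¹ = X.β.a⁻¹ := by
  have h := X.β.va
  rw [X.βv] at h
  have h1 : (F.s * F.t) * X.β.a * (F.s * F.t)⁻¹ = X.β.a := by rw [h.eq, mul_inv_cancel_right]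
  have h2 : F.s * X.β.a⁻¹ * F.s⁻¹ = X.β.a := by
    calc F.s * X.β.a⁻¹ * F.s⁻¹ = F.s * (F.t * X.β.a * F.t⁻¹) * F.s⁻¹ := by rw [X.β.tat]
      _ = (F.s * F.t) * X.β.a * (F.s * F.t)⁻¹ := by group
      _ = X.β.a := h1
  rw [← conj_inv] at h2
  exact inv_eq_iff_eq_inv.mp h2

theorem Axes.inter {g : G} (h1 : g ∈ X.α.A) (h2 : g ∈ X.β.A) : g ∈ zpowers F.x := by
  obtain ⟨i, j, hij⟩ := exists_fin_of_mem_pair h1
  obtain ⟨k, l, hkl⟩ := exists_fin_of_mem_pair h2
  by_cases hl : l = 0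
  · subst hl
    rw [hkl, Fin.val_zero, pow_zero, mul_one]
    exact npow_mem_zpowers _ _
  exfalso
  -- `b` would lie in `A`, hence be fixed and inverted by `s`
  have hb : X.β.a ∈ X.α.A := by
    have hm : X.β.a ^ (l : ℕ) ∈ X.α.A := by
      have := mul_mem (inv_mem (pow_mem X.α.x_mem_A (k : ℕ))) h1
      rwa [hkl, inv_mul_cancel_left] at this
    have hl' := Fin.val_ne_zero_iff.mpr hl
    rcases (show (l : ℕ) = 1 ∨ (l : ℕ) = 2 by omega) with h | h <;> rw [h] at hm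
    · simpa using hm
    · have h4 : X.β.a = (X.β.a ^ 2) ^ 2 := by
        rw [← pow_mul, show 2 * 2 = 3 + 1 from rfl, pow_succ, X.β.a3, one_mul]
      rw [h4]
      exact pow_mem hm 2
  obtain ⟨p, q, hpq⟩ := exists_fin_of_mem_pair hb
  have h := X.sbs
  have hx := F.sx
  have hsa : F.s * X.α.a * F.s⁻¹ = X.α.a := by
    rw [← X.αv, X.α.va.eq, mul_inv_cancel_right]
  have hc : Commute (F.x ^ (p : ℕ)) (X.α.a ^ (q : ℕ)) := X.α.commute_xa.pow_pow _ _
  rw [hpq, ← conj_mul, ← conj_pow, ← conj_pow, hx, hsa, inv_pow, mul_inv_rev,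
    ← hc.inv_inv.eq, mul_right_inj] at h
  have hq : X.α.a ^ (q : ℕ) = 1 := by
    have h2 : X.α.a ^ (2 * (q : ℕ)) = 1 := by
      rw [two_mul, pow_add]; exact mul_eq_one_iff_eq_inv.mpr h
    have h3 : X.α.a ^ (q : ℕ) = (X.α.a ^ (2 * (q : ℕ))) ^ 2 := by
      rw [← pow_mul, pow_eq_pow_mod (2 * (q : ℕ) * 2) X.α.a3, pow_eq_pow_mod (q : ℕ) X.α.a3]
      congr 1; omega
    rw [h3, h2, one_pow]
  rw [hq, mul_one] at hpq
  exact X.β.a_notMem (hpq ▸ npow_mem_zpowers _ _)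

theorem Axes.b_notMem : X.β.a ∉ X.α.A := fun h => X.β.a_notMem (X.inter h X.β.a_mem_A)

theorem Axes.decomp {y : G} (hy : y ∈ F.R) : ∃ p ∈ X.α.A, ∃ j : Fin 3, y = p * X.β.a ^ (j : ℕ) := by
  let f : X.α.A × Fin 3 → F.R := fun q =>
    ⟨q.1 * X.β.a ^ (q.2 : ℕ), mul_mem (X.α.A_le q.1.2) (pow_mem X.β.a_mem _)⟩
  have hf : Function.Injective f := by
    rintro ⟨p, j⟩ ⟨p', j'⟩ h
    have h' : (p : G) * X.β.a ^ (j : ℕ) = (p' : G) * X.β.a ^ (j' : ℕ) := congrArg Subtype.val h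
    have hmem : X.β.a ^ ((j : ℕ) + 3 - (j' : ℕ)) ∈ X.α.A := by
      have e : X.β.a ^ ((j : ℕ) + 3 - (j' : ℕ)) = (p : G)⁻¹ * p' := by
        rw [eq_inv_mul_iff_mul_eq, ← mul_right_cancel_iff (a := X.β.a ^ (j' : ℕ)), mul_assoc, ← pow_add,
          show (j : ℕ) + 3 - j' + j' = j + 3 by omega, pow_add, X.β.a3, mul_one, h']
      rw [e]
      exact mul_mem (inv_mem p.2) p'.2
    rw [pow_eq_pow_mod _ X.β.a3] at hmem
    have hj : j = j' := by
      by_contra hne
      have hne' : (j : ℕ) ≠ j' := fun e => hne (Fin.ext e)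
      rcases (show ((j : ℕ) + 3 - j') % 3 = 1 ∨ ((j : ℕ) + 3 - j') % 3 = 2 by omega) with e | e <;>
        rw [e] at hmem
      · exact X.b_notMem (by simpa using hmem)
      · refine X.b_notMem ?_
        have h4 : X.β.a = (X.β.a ^ 2) ^ 2 := by
          rw [← pow_mul, show 2 * 2 = 3 + 1 from rfl, pow_succ, X.β.a3, one_mul]
        rw [h4]
        exact pow_mem hmem 2
    subst hj
    exact Prod.ext (Subtype.ext (mul_right_cancel h')) rfl
  obtain ⟨⟨p, j⟩, h⟩ := (Nat.bijective_iff_injective_and_card f).mpr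
    ⟨hf, by rw [Nat.card_prod, Nat.card_fin, F.card_R, X.α.card_A]⟩ |>.2 ⟨y, hy⟩
  exact ⟨p, p.2, j, (congrArg Subtype.val h).symm⟩

theorem Axes.not_commute : ¬ Commute X.α.a X.β.a := by
  intro hc
  refine F.not_comm fun g hg h hh => ?_
  obtain ⟨p, hp, i, rfl⟩ := X.decomp hg
  obtain ⟨q, hq, j, rfl⟩ := X.decomp hh
  have hb : ∀ p ∈ X.α.A, Commute p X.β.a := by
    rintro _ ⟨i, j, rfl⟩
    exact (Commute.pow_left X.β.commute_xa i).mul_left (hc.pow_left j)
  exact ((commute_of_mem_pair hp hq).mul_right ((hb p hp).pow_right _)).mul_left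
    (((hb q hq).symm.pow_left _).mul_right ((Commute.refl _).pow_pow _ _))

omit X in
theorem Frame.card_class (F : Frame G) : Nat.card {g : G // IsConj g F.x} = 104 := by
  have h := card_fibre (fun g : G => g * F.x * g⁻¹) (centralizer ({F.x} : Set G))
    (fun g g' => by
      rw [mem_centralizer_singleton_iff]
      constructor
      · intro h
        calc g⁻¹ * g' * F.x = g⁻¹ * (g' * F.x * g'⁻¹) * g' := by group
          _ = _ := by rw [← h]; group
      · intro h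
        calc g * F.x * g⁻¹ = g * (F.x * (g⁻¹ * g')) * g'⁻¹ := by group
          _ = _ := by rw [← h]; group)
    {g : G | IsConj g F.x} (fun y => by
      show IsConj y F.x ↔ _
      exact ⟨fun h => isConj_iff.mp h.symm, fun ⟨g, hg⟩ => (isConj_iff.mpr ⟨g, hg⟩ : IsConj F.x y).symm⟩)
  rw [F.card_G, F.card_cx] at h
  have : Nat.card {g : G // IsConj g F.x} = Nat.card ({g : G | IsConj g F.x}) := rfl
  omega

/-- Members of the class in the radical lie in one of the two subgroups. -/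
theorem Axes.class_in_R {y : G} (hy : y ∈ F.R) (hconj : IsConj y F.x) :
    y ∈ X.α.A ∨ y ∈ X.β.A := by
  classical
  by_contra hnot
  rw [not_or] at hnot
  obtain ⟨p, hp, l, hl⟩ := X.decomp hy
  obtain ⟨k, i, hpk⟩ := exists_fin_of_mem_pair hp
  have hi : i ≠ 0 := by
    rintro rfl
    refine hnot.2 ?_
    rw [hl, hpk, Fin.val_zero, pow_zero, mul_one]
    exact ⟨k, l, rfl⟩
  have hl0 : l ≠ 0 := by
    rintro rfl
    refine hnot.1 ?_
    rw [hl, Fin.val_zero, pow_zero, mul_one]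
    exact hp
  have hsa : F.s * X.α.a * F.s⁻¹ = X.α.a := by
    rw [← X.αv, X.α.va.eq, mul_inv_cancel_right]
  have hxinv : F.x⁻¹ = F.x ^ 2 :=
    inv_eq_of_mul_eq_one_right (by rw [← pow_succ']; exact F.toData.x_cube)
  have hainv : X.α.a⁻¹ = X.α.a ^ 2 := inv_eq_of_mul_eq_one_right (by rw [← pow_succ']; exact X.α.a3)
  have hbinv : X.β.a⁻¹ = X.β.a ^ 2 := inv_eq_of_mul_eq_one_right (by rw [← pow_succ']; exact X.β.a3)
  have hnz : ∀ k i l : ℕ, i % 3 ≠ 0 → l % 3 ≠ 0 →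
      F.x ^ k * X.α.a ^ i * X.β.a ^ l ∉ zpowers F.x := by
    intro k i l _ hl h
    have hm : X.β.a ^ l ∈ X.α.A := by
      have h' : F.x ^ k * X.α.a ^ i * X.β.a ^ l ∈ X.α.A := by
        obtain ⟨n, hn⟩ := mem_powers_iff_mem_zpowers.mpr h
        rw [← show F.x ^ n = _ from hn]
        exact pow_mem X.α.x_mem_A _
      have := mul_mem (inv_mem (mul_mem (pow_mem X.α.x_mem_A k) (pow_mem X.α.a_mem_A i))) h'
      rwa [inv_mul_cancel_left] at this
    rw [pow_eq_pow_mod _ X.β.a3] at hm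
    rcases (show l % 3 = 1 ∨ l % 3 = 2 by omega) with e | e <;> rw [e] at hm
    · exact X.b_notMem (by simpa using hm)
    · rw [← hbinv, inv_mem_iff] at hm; exact X.b_notMem hm
  let P : ℕ → ℕ → Prop := fun i l => ∀ k : ℕ, IsConj (F.x ^ k * X.α.a ^ i * X.β.a ^ l) F.x
  have hcos : ∀ k i l : ℕ, i % 3 ≠ 0 → l % 3 ≠ 0 → IsConj (F.x ^ k * X.α.a ^ i * X.β.a ^ l) F.x → P i l := by
    intro k i l hi hl h k'
    obtain ⟨g, -, hg⟩ := F.coset_conj (mul_mem (mul_mem (pow_mem F.x_mem k) (pow_mem X.α.a_mem i))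
      (pow_mem X.β.a_mem l)) (hnz k i l hi hl) (k' + 2 * k)
    refine (isConj_iff.mpr ⟨g, hg⟩ : IsConj (F.x ^ k * X.α.a ^ i * X.β.a ^ l) _).symm.trans h |>
      (fun h' => ?_)
    rwa [← mul_assoc, ← mul_assoc, ← pow_add, pow_eq_pow_mod _ F.toData.x_cube,
      show (k' + 2 * k + k) % 3 = k' % 3 by omega, ← pow_eq_pow_mod _ F.toData.x_cube] at h'
  have h1 : P i l := hcos k i l (by omega) (by omega) (by rw [← hpk, ← hl]; exact hconj)
  have ht : ∀ i l : ℕ, i % 3 ≠ 0 → l % 3 ≠ 0 → P i l → P (2 * i) (2 * l) := fun i l hi hl h =>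
    hcos 0 _ _ (by omega) (by omega) ((isConj_iff.mpr ⟨F.t, by
      rw [← conj_mul, ← conj_mul, ← conj_pow, ← conj_pow, ← conj_pow, F.toData.txt, X.α.tat, X.β.tat,
        hainv, hbinv, ← pow_mul, ← pow_mul]⟩ : IsConj (F.x ^ 0 * X.α.a ^ i * X.β.a ^ l) _).symm.trans (h 0))
  have hs : ∀ i l : ℕ, i % 3 ≠ 0 → l % 3 ≠ 0 → P i l → P i (2 * l) := fun i l hi hl h =>
    hcos 0 _ _ hi (by omega) ((isConj_iff.mpr ⟨F.s, by
      simp only [pow_zero, one_mul]
      rw [← conj_mul, ← conj_pow, ← conj_pow, hsa, X.sbs, hbinv, ← pow_mul]⟩ :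
        IsConj (F.x ^ 0 * X.α.a ^ i * X.β.a ^ l) _).symm.trans (h 0))
  have hred : ∀ i l : ℕ, P i l → P (i % 3) (l % 3) := fun i l h k => by
    have := h k
    rwa [pow_eq_pow_mod i X.α.a3, pow_eq_pow_mod l X.β.a3] at this
  have hall : ∀ m n : ℕ, (m = 1 ∨ m = 2) → (n = 1 ∨ n = 2) → P m n := by
    have hi' := Fin.val_ne_zero_iff.mpr hi
    have hl' := Fin.val_ne_zero_iff.mpr hl0
    have h2 := hred _ _ (ht _ _ (by omega) (by omega) h1)
    have h3 := hred _ _ (hs _ _ (by omega) (by omega) h1)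
    have h4 := hred _ _ (hs _ _ (by omega) (by omega) h2)
    rintro m n (rfl | rfl) (rfl | rfl) <;>
      (rcases (show (i : ℕ) = 1 ∨ (i : ℕ) = 2 by omega) with e1 | e1 <;>
        rcases (show (l : ℕ) = 1 ∨ (l : ℕ) = 2 by omega) with e2 | e2 <;>
        rw [e1, e2] at h1 h2 h3 h4 <;> norm_num at h1 h2 h3 h4 <;> assumption)
  -- then every non-trivial element of `R` is conjugate to `x`
  have hR : ∀ r ∈ F.R, r ≠ 1 → IsConj r F.x := by
    intro r hr hr1
    obtain ⟨q, hq, n, hn⟩ := X.decomp hr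
    obtain ⟨c, m, hqm⟩ := exists_fin_of_mem_pair hq
    by_cases hn0 : n = 0
    · subst hn0
      rw [hn, Fin.val_zero, pow_zero, mul_one] at hr1 ⊢
      exact X.α.isConj_of_mem hq hr1
    by_cases hm0 : m = 0
    · subst hm0
      rw [hqm, Fin.val_zero, pow_zero, mul_one] at hn
      rw [hn] at hr1 ⊢
      exact X.β.isConj_of_mem ⟨c, n, rfl⟩ hr1
    rw [hn, hqm]
    exact hall m n (by have := Fin.val_ne_zero_iff.mpr hm0; omega)
      (by have := Fin.val_ne_zero_iff.mpr hn0; omega) c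
  -- Frobenius' theorem
  have hd := CfsgLib.Frobenius.Divisibility.dvd_card_pow_eq_one (G := G) (m := 27)
    (by rw [F.card_G]; norm_num)
  have he : {g : G // g ^ 27 = 1} ≃ Option {g : G // IsConj g F.x} := by
    refine Equiv.trans (Equiv.subtypeEquivRight fun g => ?_)
      (Equiv.optionSubtypeNe (⟨1, Or.inl rfl⟩ : {g : G // g = 1 ∨ IsConj g F.x})).symm |>.trans
        (Equiv.optionCongr ?_)
    · constructor
      · intro h
        by_cases h1 : g = 1
        · exact Or.inl h1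
        obtain ⟨c, hc⟩ := F.exists_conj_mem h
        exact Or.inr ((isConj_iff.mpr ⟨c, rfl⟩ : IsConj g (c * g * c⁻¹)).trans
          (hR _ hc fun h' => h1 (conj_eq_one_iff.mp h')))
      · rintro (rfl | h)
        · exact one_pow _
        · obtain ⟨c, hc⟩ := isConj_iff.mp h.symm
          rw [← hc, conj_pow, show (27 : ℕ) = 3 * 9 from rfl, pow_mul, F.toData.x_cube, one_pow]
          group
    · exact {
        toFun := fun g => ⟨g.1.1, g.1.2.resolve_left fun h => g.2 (Subtype.ext h)⟩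
        invFun := fun g => ⟨⟨g.1, Or.inr g.2⟩, fun h => F.toData.x_ne (by
          obtain ⟨c, hc⟩ := isConj_iff.mp g.2
          rw [← hc, show g.1 = 1 from congrArg Subtype.val h]; group)⟩
        left_inv := fun g => rfl
        right_inv := fun g => rfl }
  rw [Nat.card_congr he, Finite.card_option, F.card_class] at hd
  norm_num at hd

end CfsgLib.Recognition.GLTwoThree
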