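import Cfsg.Agent.Lib.Recognition.GLTwoThree.Centraliser

/-!
# The three-radical of the centraliser of an element of order three
-/

set_option autoImplicit false

namespace CfsgLib.Recognition.GLTwoThree

open Subgroup

variable {G : Type*} [Group G] [Finite G] (D : Data G)

/-- A three-element commuting with both `x` and `t` is a power of `x`. -/
theorem Data.mem_zpowers_of_commute {g : G} (hg : g ^ 3 = 1) (ht : Commute g D.t)
    (hx : Commute g D.x) : g ∈ zpowers D.x := by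
  by_contra hne
  have h := D.card_ctx (pair (x := D.x) (a := g) hx.symm D.x_cube hg) (fun k hk => by
    obtain ⟨i, j, rfl⟩ := hk
    exact ⟨(((Commute.pow_left (D.tx : Commute D.t D.x).symm i)).mul_left (ht.pow_left j)).eq,
      (((Commute.refl D.x).pow_left i).mul_left (hx.pow_left j)).eq⟩)
  rw [card_pair D.x_ne hne] at h
  norm_num at h

theorem exists_index_two {C : Subgroup G} {m : ℕ} (hC : Nat.card C = 2 * 3 ^ m) :
    ∃ R : Subgroup G, Nat.card R = 3 ^ m ∧ R ≤ C ∧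
      (∀ g ∈ C, g ^ 3 ^ m = 1 → g ∈ R) ∧
      (∀ g ∈ C, ∀ h ∈ C, g * h ∈ R ↔ (g ∈ R ↔ h ∈ R)) := by
  haveI : Fact (Nat.Prime 3) := ⟨Nat.prime_three⟩
  obtain ⟨R, hR⟩ := Sylow.exists_subgroup_card_pow_prime (G := C) 3 (n := m) (by rw [hC]; exact dvd_mul_left _ _)
  have hi : R.index = 2 := by
    have := R.card_mul_index
    rw [hR, hC, mul_comm 2] at this
    exact mul_left_cancel₀ (by positivity) this
  have hmem : ∀ (g : G) (hg : g ∈ C), g ∈ R.map C.subtype ↔ (⟨g, hg⟩ : C) ∈ R := fun g hg =>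
    ⟨fun ⟨g', hg', e⟩ => by rwa [show (⟨g, hg⟩ : C) = g' from Subtype.ext e.symm],
      fun h => ⟨_, h, rfl⟩⟩
  refine ⟨R.map C.subtype, ?_, map_subtype_le R, fun g hg hgm => ?_, fun g hg h hh => ?_⟩
  · rw [← Nat.card_congr (equivMapOfInjective R _ C.subtype_injective).toEquiv, hR]
  · rw [hmem g hg]
    exact mem_of_index_two hi (n := 3 ^ m) (Odd.pow (by decide)) (Subtype.ext (by simpa using hgm))
  · rw [hmem g hg, hmem h hh, hmem _ (mul_mem hg hh)]
    exact Subgroup.mul_mem_iff_of_index_two (a := (⟨g, hg⟩ : C)) (b := ⟨h, hh⟩) hi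

/-- Conjugation by elements fixing or inverting `x` preserves the centraliser of `x`. -/
theorem Data.conj_mem_centralizer {g r : G} (hg : g * D.x * g⁻¹ = D.x ∨ g * D.x * g⁻¹ = D.x⁻¹)
    (hr : Commute r D.x) : Commute (g * r * g⁻¹) D.x := by
  have h := (Commute.conj_iff g).mpr hr
  rcases hg with hg | hg <;> rw [hg] at h
  · exact h
  · simpa using h.inv_right

set_option maxHeartbeats 1000000 in
theorem Data.not_eighteen (hcard : Nat.card G = 5616) :
    Nat.card (centralizer ({D.x} : Set G)) ≠ 18 ∧ Nat.card (centralizer ({D.x} : Set G)) ≠ 6 := by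
  classical
  haveI : Fact (Nat.Prime 3) := ⟨Nat.prime_three⟩
  set C := centralizer ({D.x} : Set G)
  have hx : IsPGroup 3 (zpowers D.x) :=
    IsPGroup.of_card (n := 1) (by rw [Nat.card_zpowers, D.x3, pow_one])
  obtain ⟨S, hS⟩ := hx.exists_le_sylow
  have hS27 : Nat.card (S : Subgroup G) = 27 := by
    have h1 : Nat.Prime 3 := Nat.prime_three
    rw [S.card_eq_multiplicity, hcard, show 5616 = 3 ^ 3 * 208 by norm_num,
      Nat.factorization_mul (by norm_num) (by norm_num), Finsupp.add_apply,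
      Nat.Prime.factorization_pow h1, Finsupp.single_eq_same,
      Nat.factorization_eq_zero_of_not_dvd (by norm_num)]
    norm_num
  -- a central element of order three
  haveI : Nontrivial (S : Subgroup G) := ⟨⟨⟨D.x, hS (mem_zpowers _)⟩, 1,
    fun h => D.x_ne (congrArg Subtype.val h)⟩⟩
  obtain ⟨⟨z', hz'⟩, hzo⟩ := exists_prime_orderOf_dvd_card' (G := center (S : Subgroup G)) 3 (by
    obtain ⟨n, hn⟩ := (S.isPGroup'.to_subgroup (center (S : Subgroup G))).exists_card_eq
    have h1 : 1 < Nat.card (center (S : Subgroup G)) :=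
      Finite.one_lt_card_iff_nontrivial.mpr S.isPGroup'.center_nontrivial
    rw [hn] at h1 ⊢
    exact dvd_pow_self 3 fun h0 => by rw [h0, pow_zero] at h1; omega)
  rw [Subgroup.orderOf_mk, ← Subgroup.orderOf_coe] at hzo
  set z : G := z'.1
  have hzc : ∀ g ∈ (S : Subgroup G), Commute g z := fun g hg =>
    congrArg Subtype.val (mem_center_iff.mp hz' ⟨g, hg⟩)
  have hz3 : z ^ 3 = 1 := by rw [← hzo]; exact pow_orderOf_eq_one z
  have hzx : Commute D.x z := hzc _ (hS (mem_zpowers _))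
  have hnS : ¬ (S : Subgroup G) ≤ C → z ∉ zpowers D.x := by
    intro hn hz
    refine hn fun g hg => mem_centralizer_singleton_iff.mpr ?_
    obtain ⟨k, hk⟩ := mem_powers_iff_mem_zpowers.mpr hz
    have hk' : D.x ^ (k % 3) = z := by
      have := pow_mod_orderOf D.x k
      rw [D.x3] at this
      exact this.trans hk
    have hk0 : k % 3 ≠ 0 := fun h0 => by
      rw [h0, pow_zero] at hk'
      rw [← hk', orderOf_one] at hzo
      omega
    have hxz : D.x = z ^ (k % 3) := by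
      rw [← hk', ← pow_mul, pow_eq_pow_mod _ D.x_cube]
      rcases (show k % 3 = 1 ∨ k % 3 = 2 by omega) with h | h <;> rw [h] <;> norm_num
    rw [hxz]
    exact ((hzc g hg).pow_right _).eq
  suffices h18 : Nat.card C ≠ 18 by
    refine ⟨h18, fun h6 => ?_⟩
    have hn : ¬ (S : Subgroup G) ≤ C := fun hle => by
      have h := card_dvd_of_le hle
      rw [hS27, h6] at h
      norm_num at h
    have hle : pair hzx D.x_cube hz3 ≤ C := fun g hg =>
      mem_centralizer_singleton_iff.mpr (commute_of_mem_pair hg left_mem_pair).eq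
    have h9 := card_dvd_of_le hle
    rw [card_pair D.x_ne (hnS hn), h6] at h9
    norm_num at h9
  intro h18
  have hn : ¬ (S : Subgroup G) ≤ C := fun hle => by
    have h := card_dvd_of_le hle
    rw [hS27, h18] at h
    norm_num at h
  have hzn := hnS hn
  obtain ⟨O, hO, hOC, hOmem, -⟩ := exists_index_two (C := C) (m := 2) (by rw [h18]; norm_num)
  have hPO : pair hzx D.x_cube hz3 = O := by
    refine eq_of_le_of_card_ge (fun g hg => hOmem g
      (mem_centralizer_singleton_iff.mpr (commute_of_mem_pair hg left_mem_pair).eq) ?_) ?_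
    · rw [show (3 : ℕ) ^ 2 = 3 * 3 by norm_num, pow_mul, pow_three_of_mem_pair hg, one_pow]
    · rw [hO, card_pair D.x_ne hzn]; norm_num
  have hzO : z ∈ O := hPO ▸ right_mem_pair
  have hxO : D.x ∈ O := hPO ▸ left_mem_pair
  have hcomm : ∀ g ∈ O, ∀ h ∈ O, Commute g h := fun g hg h hh => by
    rw [← hPO] at hg hh; exact commute_of_mem_pair hg hh
  have hcube : ∀ g ∈ O, g ^ 3 = 1 := fun g hg => by rw [← hPO] at hg; exact pow_three_of_mem_pair hg
  have hnorm : ∀ g, (g * D.x * g⁻¹ = D.x ∨ g * D.x * g⁻¹ = D.x⁻¹) → ∀ r ∈ O, g * r * g⁻¹ ∈ O := by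
    intro g hg r hr
    refine hOmem _ (mem_centralizer_singleton_iff.mpr
      (D.conj_mem_centralizer hg (hcomm r hr _ hxO)).eq) ?_
    rw [conj_pow, show (3 : ℕ) ^ 2 = 3 * 3 by norm_num, pow_mul, hcube r hr, one_pow]
    group
  -- an element inverted by `t`
  let y : G := (D.t * z * D.t⁻¹)⁻¹ * z
  have hzt : D.t * z * D.t⁻¹ ∈ O := hnorm _ (Or.inl D.txt) z hzO
  have hyO : y ∈ O := mul_mem (inv_mem hzt) hzO
  have hyt : D.t * y * D.t⁻¹ = y⁻¹ := by
    show D.t * ((D.t * z * D.t⁻¹)⁻¹ * z) * D.t⁻¹ = ((D.t * z * D.t⁻¹)⁻¹ * z)⁻¹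
    calc D.t * ((D.t * z * D.t⁻¹)⁻¹ * z) * D.t⁻¹
        = (D.t * D.t) * z⁻¹ * (D.t * D.t)⁻¹ * (D.t * z * D.t⁻¹) := by group
      _ = _ := by rw [D.t_sq]; group
  have hy1 : y ≠ 1 := fun h => hzn (D.mem_zpowers_of_commute hz3
    (mul_inv_eq_iff_eq_mul.mp (inv_mul_eq_one.mp h) : D.t * z = z * D.t).symm
    (hzx.symm))
  have hy3 := hcube y hyO
  have hyo : orderOf y = 3 := orderOf_eq_prime hy3 hy1
  have hyx : y ∉ zpowers D.x := by
    intro h
    obtain ⟨k, hk⟩ := h
    have hc : Commute D.t y := hk ▸ Commute.zpow_right (D.tx : Commute D.t D.x) k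
    rw [hc.eq, mul_inv_cancel_right] at hyt
    have : orderOf y ∣ 2 := orderOf_dvd_of_pow_eq_one (by
      rw [sq]; exact eq_inv_iff_mul_eq_one.mp hyt)
    rw [hyo] at this
    norm_num at this
  have hxy : Commute D.x y := hcomm _ hxO _ hyO
  have hPy : pair hxy D.x_cube hy3 = O := by
    refine eq_of_le_of_card_ge ?_ (by rw [hO, card_pair D.x_ne hyx]; norm_num)
    rintro g ⟨i, j, rfl⟩
    exact mul_mem (pow_mem hxO i) (pow_mem hyO j)
  have coord := pair_coord D.x_ne hyx D.x_cube hy3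
  -- `s` or `s t` centralises `y`
  obtain ⟨v, hv2, hvx, hvy⟩ : ∃ v : G, orderOf v = 2 ∧ v * D.x * v⁻¹ = D.x⁻¹ ∧ Commute v y := by
    have hs := hnorm _ (Or.inr D.sx) y hyO
    rw [← hPy] at hs
    obtain ⟨i, j, hij⟩ := exists_fin_of_mem_pair hs
    have h1 : D.s * (D.t * y * D.t⁻¹) * D.s⁻¹ = D.t * (D.s * y * D.s⁻¹) * D.t⁻¹ := by
      calc D.s * (D.t * y * D.t⁻¹) * D.s⁻¹ = (D.s * D.t) * y * (D.s * D.t)⁻¹ := by group
        _ = (D.t * D.s) * y * (D.t * D.s)⁻¹ := by rw [D.ts]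
        _ = _ := by group
    rw [hyt, hij, ← conj_inv, hij, ← conj_mul, ← conj_pow, ← conj_pow, D.txt, hyt,
      inv_pow] at h1
    have h2 : (D.x ^ (i : ℕ))⁻¹ = D.x ^ (i : ℕ) := by
      have := mul_right_cancel (b := (y ^ (j : ℕ))⁻¹) (a := (D.x ^ (i : ℕ))⁻¹)
        (c := D.x ^ (i : ℕ)) (by rw [← h1, mul_inv_rev, ((hxy.pow_pow i j).inv_inv).eq])
      exact this
    have hi : i = 0 := by
      have h3 : D.x ^ (2 * (i : ℕ)) = 1 := by
        rw [two_mul, pow_add]; exact inv_eq_iff_mul_eq_one.mp h2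
      have h4 := orderOf_dvd_of_pow_eq_one h3
      rw [D.x3] at h4
      exact Fin.ext (by have := i.2; rw [Fin.val_zero]; omega)
    subst hi
    simp only [Fin.val_zero, pow_zero, one_mul] at hij
    fin_cases j
    · simp at hij; exact absurd hij hy1
    · exact ⟨D.s, D.s2, D.sx, (mul_inv_eq_iff_eq_mul.mp (by simpa using hij) : D.s * y = y * D.s)⟩
    · refine ⟨D.s * D.t, D.st_order, D.stxst, ?_⟩
      have : (D.s * D.t) * y * (D.s * D.t)⁻¹ = y := by
        rw [show (D.s * D.t) * y * (D.s * D.t)⁻¹ = D.s * (D.t * y * D.t⁻¹) * D.s⁻¹ by group, hyt,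
          ← conj_inv, hij]
        exact inv_eq_of_mul_eq_one_right (by rw [← pow_succ]; exact hy3)
      exact mul_inv_eq_iff_eq_mul.mp this
  have hyconj : IsConj y D.x := D.conj_of_involution hv2 hyo hvy.symm.symm
  have haxis : ∀ i j : Fin 3, (i = 0 ∨ j = 0) → (i, j) ≠ (0, 0) →
      IsConj (D.x ^ (i : ℕ) * y ^ (j : ℕ)) D.x := by
    intro i j hij hne
    have hx2 : D.x ^ 2 = D.x⁻¹ := eq_inv_of_mul_eq_one_left (by rw [← pow_succ]; exact D.x_cube)
    have hy2 : IsConj (y ^ 2) D.x := by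
      have : IsConj (y ^ 2) y := by
        refine (isConj_iff.mpr ⟨D.t, ?_⟩ : IsConj (y ^ 2) y)
        rw [← conj_pow, hyt, inv_pow]
        exact inv_eq_of_mul_eq_one_right (by rw [← pow_succ]; exact hy3)
      exact this.trans hyconj
    fin_cases i <;> fin_cases j
    all_goals first
      | exact absurd rfl hne
      | (rcases hij with h | h <;> exact absurd (congrArg Fin.val h) (by decide))
      | (simp only [pow_zero, pow_one, one_mul, mul_one, hx2]
         first | exact hyconj | exact hy2 | exact IsConj.refl _ | exact D.x_conj_inv)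
  -- the mixed elements are conjugate to `z`
  have hzy : ∃ a b : Fin 3, a ≠ 0 ∧ b ≠ 0 ∧ z = D.x ^ (a : ℕ) * y ^ (b : ℕ) := by
    have := hzO
    rw [← hPy] at this
    obtain ⟨a, b, hab⟩ := exists_fin_of_mem_pair this
    have hnx : ¬ IsConj z D.x := fun h => by
      have h2 := card_centralizer_of_isConj h
      have hle : (S : Subgroup G) ≤ centralizer ({z} : Set G) := fun g hg =>
        mem_centralizer_singleton_iff.mpr (hzc g hg).eq
      have h3 := card_dvd_of_le hle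
      rw [h2, hS27] at h3
      change 27 ∣ Nat.card C at h3
      rw [h18] at h3
      norm_num at h3
    have hnz : (a, b) ≠ ((0 : Fin 3), (0 : Fin 3)) := fun h => by
      obtain ⟨rfl, rfl⟩ := Prod.mk.inj h
      rw [hab, Fin.val_zero, pow_zero, pow_zero, mul_one, orderOf_one] at hzo
      omega
    exact ⟨a, b, fun h0 => hnx (hab ▸ haxis a b (Or.inl h0) hnz),
      fun h0 => hnx (hab ▸ haxis a b (Or.inr h0) hnz), hab⟩
  obtain ⟨a, b, ha0, hb0, hab⟩ := hzy
  have hmixed : ∀ i j : Fin 3, i ≠ 0 → j ≠ 0 → ¬ IsConj (D.x ^ (i : ℕ) * y ^ (j : ℕ)) D.x := by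
    intro i j hi hj h
    have hnz : ¬ IsConj z D.x := fun h' => by
      have h2 := card_centralizer_of_isConj h'
      have h3 := card_dvd_of_le (show (S : Subgroup G) ≤ centralizer ({z} : Set G) from fun g hg =>
        mem_centralizer_singleton_iff.mpr (hzc g hg).eq)
      rw [h2, hS27] at h3
      change 27 ∣ Nat.card C at h3
      rw [h18] at h3
      norm_num at h3
    refine hnz (IsConj.trans ?_ h)
    -- signs are changed by `t` and `v`
    have hti : ∀ m n : ℕ, IsConj (D.x ^ m * y ^ n) (D.x ^ m * y ^ (2 * n)) := fun m n =>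
      isConj_iff.mpr ⟨D.t, by
        rw [← conj_mul, ← conj_pow, ← conj_pow, D.txt, hyt, inv_pow, pow_mul y 2]
        congr 1
        rw [← inv_pow, show y⁻¹ = y ^ 2 from inv_eq_of_mul_eq_one_right (by rw [← pow_succ']; exact hy3)]⟩
    have hvi : ∀ m n : ℕ, IsConj (D.x ^ m * y ^ n) (D.x ^ (2 * m) * y ^ n) := fun m n =>
      isConj_iff.mpr ⟨v, by
        rw [← conj_mul, ← conj_pow, ← conj_pow, hvx, hvy.eq, mul_inv_cancel_right,
          show D.x⁻¹ = D.x ^ 2 from inv_eq_of_mul_eq_one_right (by rw [← pow_succ']; exact D.x_cube),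
          pow_mul]⟩
    have hred : ∀ m n : ℕ, D.x ^ m * y ^ n = D.x ^ (m % 3) * y ^ (n % 3) := fun m n => by
      rw [← pow_eq_pow_mod m D.x_cube, ← pow_eq_pow_mod n hy3]
    rw [hab]
    have hA : ∀ m m' n : ℕ, m < 3 → m' < 3 → m ≠ 0 → m' ≠ 0 →
        IsConj (D.x ^ m * y ^ n) (D.x ^ m' * y ^ n) := by
      intro m m' n h1 h2 h3 h4
      by_cases he : m = m'
      · rw [he]
      · refine (hvi m n).trans ?_
        rw [show D.x ^ (2 * m) = D.x ^ m' by rw [pow_eq_pow_mod (2 * m) D.x_cube, show (2 * m) % 3 = m' by interval_cases m <;> interval_cases m' <;> omega]]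
    have hB : ∀ m n n' : ℕ, n < 3 → n' < 3 → n ≠ 0 → n' ≠ 0 →
        IsConj (D.x ^ m * y ^ n) (D.x ^ m * y ^ n') := by
      intro m n n' h1 h2 h3 h4
      by_cases he : n = n'
      · rw [he]
      · refine (hti m n).trans ?_
        rw [show y ^ (2 * n) = y ^ n' by rw [pow_eq_pow_mod (2 * n) hy3, show (2 * n) % 3 = n' by interval_cases n <;> interval_cases n' <;> omega]]
    exact (hA a i b a.2 i.2 (Fin.val_ne_zero_iff.mpr ha0) (Fin.val_ne_zero_iff.mpr hi)).trans
      (hB i b j b.2 j.2 (Fin.val_ne_zero_iff.mpr hb0) (Fin.val_ne_zero_iff.mpr hj))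
  -- an element of `S` moving `x`
  obtain ⟨g, hgS, hgC⟩ := Set.not_subset.mp hn
  have hgx : g * D.x * g⁻¹ ≠ D.x := fun h => hgC (mem_centralizer_singleton_iff.mpr
    (mul_inv_eq_iff_eq_mul.mp h))
  have hOS : O ≤ S := by
    rw [← hPO]
    rintro k ⟨i, j, rfl⟩
    exact mul_mem (pow_mem (hS (mem_zpowers _)) i) (pow_mem z'.2 j)
  haveI hnormal : (O.subgroupOf S).Normal := by
    refine normal_of_index_eq_minFac_card ?_
    have h := (O.subgroupOf S).card_mul_index
    rw [Nat.card_congr (subgroupOfEquivOfLe hOS).toEquiv, hO, hS27] at h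
    rw [hS27, show Nat.minFac 27 = 3 by norm_num]
    omega
  have hgO : ∀ r ∈ O, g * r * g⁻¹ ∈ O := fun r hr =>
    hnormal.conj_mem ⟨r, hOS hr⟩ hr ⟨g, hgS⟩
  have himg : ∀ r ∈ O, IsConj r D.x → ∃ i j : Fin 3, (i = 0 ∨ j = 0) ∧
      g * r * g⁻¹ = D.x ^ (i : ℕ) * y ^ (j : ℕ) := by
    intro r hr hrx
    have h := hgO r hr
    rw [← hPy] at h
    obtain ⟨i, j, hij⟩ := exists_fin_of_mem_pair h
    refine ⟨i, j, ?_, hij⟩
    by_contra hc
    rw [not_or] at hc
    refine hmixed i j hc.1 hc.2 ?_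
    rw [← hij]
    exact (isConj_iff.mpr ⟨g, rfl⟩ : IsConj r (g * r * g⁻¹)).symm.trans hrx
  obtain ⟨i1, j1, h1, e1⟩ := himg D.x hxO (IsConj.refl _)
  obtain ⟨i2, j2, h2, e2⟩ := himg y hyO hyconj
  -- the fourth power of `g` fixes `x`
  have hgo : ∃ k, g ^ 3 ^ k = 1 := by
    obtain ⟨k, hk⟩ := S.isPGroup' ⟨g, hgS⟩
    exact ⟨k, congrArg Subtype.val hk⟩
  have hfix : ∀ n : ℕ, Nat.Coprime n 3 → g ^ n * D.x * (g ^ n)⁻¹ = D.x → False := by
    intro n hn' hf
    obtain ⟨k, hk⟩ := hgo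
    have hd : Nat.Coprime n (orderOf g) :=
      Nat.Coprime.coprime_dvd_right (orderOf_dvd_of_pow_eq_one hk) (hn'.pow_right k)
    obtain ⟨m, hm⟩ := exists_pow_eq_self_of_coprime hd
    refine hgx (mul_inv_eq_iff_eq_mul.mpr ?_)
    rw [← hm]
    exact (Commute.pow_left (mul_inv_eq_iff_eq_mul.mp hf : Commute (g ^ n) D.x) m).eq
  have hx0 : ¬ (i1 = 0 ∧ j1 = 0) := by
    rintro ⟨rfl, rfl⟩
    simp at e1
    exact D.x_ne e1
  rcases h1 with rfl | rfl
  · -- `x` goes to a power of `y`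
    have hj1 : j1 ≠ 0 := fun h => hx0 ⟨rfl, h⟩
    rcases h2 with rfl | rfl
    · -- both go into `⟨y⟩`
      simp only [Fin.val_zero, pow_zero, one_mul] at e1 e2
      have h5 : g * (D.x ^ (j2 : ℕ)) * g⁻¹ = g * (y ^ (j1 : ℕ)) * g⁻¹ := by
        rw [← conj_pow, ← conj_pow, e1, e2, ← pow_mul, ← pow_mul, mul_comm]
      have h6 := coord j2 0 0 j1 (by simpa using mul_left_cancel (mul_right_cancel h5))
      exact hj1 h6.2.symm
    · simp only [Fin.val_zero, pow_zero, one_mul, mul_one] at e1 e2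
      have h7 : g ^ 2 * D.x * (g ^ 2)⁻¹ = D.x ^ ((i2 : ℕ) * (j1 : ℕ)) := by
        rw [sq, show g * g * D.x * (g * g)⁻¹ = g * (g * D.x * g⁻¹) * g⁻¹ by group, e1, ← conj_pow,
          e2, ← pow_mul]
      refine hfix 4 (by norm_num) ?_
      rw [show (4 : ℕ) = 2 + 2 from rfl, pow_add,
        show g ^ 2 * g ^ 2 * D.x * (g ^ 2 * g ^ 2)⁻¹ = g ^ 2 * (g ^ 2 * D.x * (g ^ 2)⁻¹) * (g ^ 2)⁻¹ by group,
        h7, ← conj_pow, h7, ← pow_mul, pow_eq_pow_mod _ D.x_cube]
      have : ((i2 : ℕ) * j1 * (i2 * j1)) % 3 = 1 := by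
        have hi2 : i2 ≠ 0 := by
          rintro rfl
          simp at e2
          exact hy1 e2
        revert hj1 hi2
        clear * -
        fin_cases i2 <;> fin_cases j1 <;> decide
      rw [this, pow_one]
  · -- `x` goes to its inverse
    simp only [Fin.val_zero, pow_zero, mul_one] at e1
    refine hfix 2 (by norm_num) ?_
    rw [sq, show g * g * D.x * (g * g)⁻¹ = g * (g * D.x * g⁻¹) * g⁻¹ by group, e1, ← conj_pow, e1,
      ← pow_mul, pow_eq_pow_mod _ D.x_cube]
    have hi1 : i1 ≠ 0 := fun h => hx0 ⟨h, rfl⟩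
    rw [show ((i1 : ℕ) * (i1 : ℕ)) % 3 = 1 by
      revert hi1; clear * -; fin_cases i1 <;> decide, pow_one]

theorem Data.card_centralizer_x [IsSimpleGroup G] (hcard : Nat.card G = 5616) :
    Nat.card (centralizer ({D.x} : Set G)) = 54 := by
  obtain ⟨j, hj, hj3⟩ := D.card_centralizer_x_cases hcard
  obtain ⟨h18, h6⟩ := D.not_eighteen hcard
  have h3 : 3 ∣ Nat.card (centralizer ({D.x} : Set G)) := by
    rw [← D.x3, ← Subgroup.orderOf_mk D.x (mem_centralizer_singleton_iff.mpr rfl)]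
    exact orderOf_dvd_natCard _
  rw [hj] at h18 h6 h3 ⊢
  interval_cases j <;> simp_all

end CfsgLib.Recognition.GLTwoThree
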